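import Groth.Agent.GrpSch.K106.PairSub

/-!
# Generic counting: node (N7) of S14306
-/

set_option autoImplicit false
universe u

open CategoryTheory CategoryTheory.Limits MonoidalCategory CartesianMonoidalCategory MonObj AlgebraicGeometry
open K525.AlgC K525.OrdC K106.FSub K106.FSub.Sub K106.PairSub K270.MB

noncomputable section

namespace K106.Count

variable {k : Type u} [Field k] {X : Over (Spec (CommRingCat.of k))} [GrpObj X] [IsCommMonObj X]

/-- An increasing sequence of subgroups of a finite subgroup is stationary. -/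
theorem exists_stable (P : ℕ → Sub X) (B : Sub X) (hB : ∀ n, B.Mem (P n).inc) (hmono : ∀ n, (P (n + 1)).Mem (P n).inc) :
    ∃ a, ∀ n, a ≤ n → ∀ {T : Over (Spec (CommRingCat.of k))} (x : T ⟶ X), (P n).Mem x → (P a).Mem x := by
  have hle : ∀ n, (P n).o ≤ B.o := fun n => o_le (hB n)
  have hstep : ∀ (n : ℕ) {T : Over (Spec (CommRingCat.of k))} (x : T ⟶ X), (P n).Mem x → (P (n + 1)).Mem x := by
    rintro n T _ ⟨y, rfl⟩
    exact mem_comp y (hmono n)
  have hmon : ∀ (a d : ℕ) {T : Over (Spec (CommRingCat.of k))} (x : T ⟶ X), (P a).Mem x → (P (a + d)).Mem x := by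
    intro a d
    induction d with
    | zero => intro T x h; exact h
    | succ d ih => intro T x h; exact hstep _ _ (ih _ h)
  obtain ⟨a, ha⟩ : ∃ a, ∀ n, (P n).o ≤ (P a).o := by
    have hfin : (Set.range fun n => (P n).o).Finite := Set.Finite.subset (Set.finite_Iic B.o) (by
      rintro _ ⟨n, rfl⟩
      exact hle n)
    obtain ⟨_, ⟨a, rfl⟩, hm⟩ := hfin.exists_maximal ⟨_, ⟨0, rfl⟩⟩
    refine ⟨a, fun n => ?_⟩
    by_contra hlt
    push Not at hlt
    exact absurd (hm ⟨n, rfl⟩ hlt.le) (not_le.2 hlt)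
  refine ⟨a, fun n hn T x hx => ?_⟩
  obtain ⟨d, rfl⟩ := Nat.exists_eq_add_of_le hn
  exact le_of_ord (hmon a d _ (P a).mem_self) (ha _) hx

section Core

variable {p : ℕ} (hp : p.Prime) (W F M : ℕ → Sub X)
  (hW : ∀ (m : ℕ) {T : Over (Spec (CommRingCat.of k))} (x : T ⟶ X), (W m).Mem x ↔ x ^ (p ^ m) = 1)
  (hF : ∀ (m : ℕ) {T : Over (Spec (CommRingCat.of k))} (x : T ⟶ X), (F m).Mem x ↔ (F (m + 1)).Mem x ∧ x ^ (p ^ m) = 1)
  (hM : ∀ (m : ℕ) {T : Over (Spec (CommRingCat.of k))} (x : T ⟶ X), (M m).Mem x ↔ (M (m + 1)).Mem x ∧ x ^ (p ^ m) = 1)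

include hF in
theorem tower {m d n : ℕ} (hn : n = m + d) {T : Over (Spec (CommRingCat.of k))} (x : T ⟶ X) :
    (F m).Mem x ↔ (F n).Mem x ∧ x ^ (p ^ m) = 1 := by
  subst hn
  induction d with
  | zero => exact ⟨fun h => ⟨h, ((hF m x).1 h).2⟩, fun h => h.1⟩
  | succ d ih =>
    rw [ih, hF (m + d) x]
    constructor
    · rintro ⟨⟨h1, -⟩, h2⟩
      exact ⟨h1, h2⟩
    · rintro ⟨h1, h2⟩
      refine ⟨⟨h1, ?_⟩, h2⟩
      rw [pow_add, pow_mul, h2, one_pow]

include hF in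
theorem tower' {m d n : ℕ} (hn : n = m + d) {T : Over (Spec (CommRingCat.of k))} (x : T ⟶ X) (h : (F n).Mem x) :
    (F m).Mem (x ^ (p ^ d)) := by
  subst hn
  rw [tower F hF rfl]
  refine ⟨mem_pow h _, ?_⟩
  rw [← pow_mul, ← pow_add, add_comm]
  exact ((hF (m + d) x).1 h).2

variable (e : ∀ m, TPairing X (p ^ m))
  (hcomp : ∀ (m : ℕ) {T : Over (Spec (CommRingCat.of k))} (x y : T ⟶ X) (hx : x ^ (p ^ m) = 1)
      (hx' : x ^ (p ^ (m + 1)) = 1) (hy : y ^ (p ^ (m + 1)) = 1) (hy' : (y ^ p) ^ (p ^ m) = 1),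
      (e (m + 1)).e x y hx' hy = (e m).e x (y ^ p) hx hy')
  (hsk : ∀ (m : ℕ) {T : Over (Spec (CommRingCat.of k))} (x y : T ⟶ X) (hx : x ^ (p ^ m) = 1) (hy : y ^ (p ^ m) = 1),
      (e m).e x y hx hy * (e m).e y x hy hx = 1)

include hcomp in
theorem comp_E {m d n : ℕ} (hn : n = m + d) {T : Over (Spec (CommRingCat.of k))} (x y : T ⟶ X) (hx : x ^ (p ^ m) = 1)
    (hy : y ^ (p ^ n) = 1) : E (e n) x y = E (e m) x (y ^ (p ^ d)) := by
  subst hn
  induction d generalizing y with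
  | zero => rw [pow_zero, pow_one]; rfl
  | succ d ih =>
    have hxd : x ^ (p ^ (m + d)) = 1 := by rw [pow_add, pow_mul, hx, one_pow]
    have hxd' : x ^ (p ^ (m + d + 1)) = 1 := by rw [pow_succ, pow_mul, hxd, one_pow]
    have hy' : (y ^ p) ^ (p ^ (m + d)) = 1 := by
      rw [← pow_mul, mul_comm, ← pow_succ]
      exact hy
    have h1 := hcomp (m + d) x y hxd hxd' hy hy'
    have h2 : E (e (m + (d + 1))) x y = E (e (m + d)) x (y ^ p) := by
      rw [E_eq _ _ _ hxd' hy, E_eq _ _ _ hxd hy']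
      exact h1
    rw [h2, ih _ hy', ← pow_mul, ← pow_succ']

include hsk in
theorem E_symm (m : ℕ) {T : Over (Spec (CommRingCat.of k))} (x y : T ⟶ X) (hx : x ^ (p ^ m) = 1) (hy : y ^ (p ^ m) = 1)
    (h : E (e m) x y = 1) : E (e m) y x = 1 := by
  rw [E_eq _ _ _ hx hy] at h
  rw [E_eq _ _ _ hy hx]
  have := hsk m x y hx hy
  rwa [h, _root_.one_mul] at this

include hp hW hF hM hcomp hsk in
theorem core (hMF : ∀ (m : ℕ) {T : Over (Spec (CommRingCat.of k))} (x : T ⟶ X), (M m).Mem x → (F m).Mem x)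
    (b r : ℕ) (hWo : ∀ m, (W m).o = p ^ (m * (2 * (b + r)))) (hFo : ∀ m, (F m).o = p ^ (m * (2 * b + r)))
    (hMo : ∀ m, (M m).o = p ^ (m * r)) (Kl : Sub X)
    (hKl : ∀ (m : ℕ) {T : Over (Spec (CommRingCat.of k))} (x : T ⟶ X), x ^ (p ^ m) = 1 →
      (Kl.Mem x ↔ Orth (e m) (W m) x))
    (hMFe : ∀ (m : ℕ) {T : Over (Spec (CommRingCat.of k))} (x y : T ⟶ X), (M m).Mem x → (F m).Mem y → E (e m) x y = 1)
    (m : ℕ) (T : Over (Spec (CommRingCat.of k))) (x : T ⟶ X) (hx : (F m).Mem x) (hxF : Orth (e m) (F m) x) :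
    ∃ (T' : Over (Spec (CommRingCat.of k))) (g : T' ⟶ T) (m' : ℕ) (y : T' ⟶ X), Surjective g.left ∧ Flat g.left ∧
      QuasiCompact g.left ∧ (M m').Mem y ∧ Kl.Mem ((g ≫ x) * y⁻¹) := by
  have hppos : 0 < p := hp.pos
  have hFW : ∀ (m : ℕ) {T : Over (Spec (CommRingCat.of k))} (x : T ⟶ X), (F m).Mem x → x ^ (p ^ m) = 1 :=
    fun m T x h => ((hF m x).1 h).2
  have hWW : ∀ (m : ℕ) {T : Over (Spec (CommRingCat.of k))} (x : T ⟶ X), (W m).Mem x → x ^ (p ^ m) = 1 :=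
    fun m T x h => (hW m x).1 h
  have hpw : ∀ {m d n : ℕ} (_ : n = m + d) {T : Over (Spec (CommRingCat.of k))} (x : T ⟶ X),
      x ^ (p ^ m) = 1 → x ^ (p ^ n) = 1 := by
    intro m d n hn T x h
    rw [hn, pow_add, pow_mul, h, one_pow]
  -- the kernels
  have hKP0 : ∀ n, ∃ L : Sub X, ∀ {T : Over (Spec (CommRingCat.of k))} (x : T ⟶ X),
      L.Mem x ↔ x ^ (p ^ n) = 1 ∧ Kl.Mem x := by
    intro n
    obtain ⟨L, hL⟩ := exists_orth (e := e n) (W n) (W n) (fun x h => hWW n x h) (fun x h => hWW n x h)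
    refine ⟨L, fun {T} x => ?_⟩
    rw [hL, hW]
    constructor
    · rintro ⟨h1, h2⟩
      exact ⟨h1, (hKl n x h1).2 h2⟩
    · rintro ⟨h1, h2⟩
      exact ⟨h1, (hKl n x h1).1 h2⟩
  choose KP hKP using hKP0
  obtain ⟨a, ha⟩ := exists_stable KP Kl (fun n => ((hKP n _).1 (KP n).mem_self).2) (fun n => by
    rw [hKP]
    obtain ⟨h1, h2⟩ := (hKP n _).1 (KP n).mem_self
    exact ⟨hpw rfl _ h1, h2⟩)
  obtain ⟨n, hn⟩ : ∃ n, n = a + m := ⟨_, rfl⟩
  have hn' : n = m + a := by omega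
  -- the power maps
  have hWn : (W a).Mem ((W n).inc ^ (p ^ m)) := by
    rw [hW, ← pow_mul, ← pow_add, add_comm, ← hn]
    exact hWW n _ (W n).mem_self
  obtain ⟨q, hq, hq'⟩ := exists_epi (W n) (W a) (p ^ m) hWn (W m) (fun {T} x => by
    rw [hW, hW]
    exact ⟨fun h => ⟨hpw hn' x h, h⟩, fun h => h.2⟩) (by
    rw [hWo, hWo, hWo, ← pow_add]
    apply le_of_eq
    congr 1
    rw [hn]
    ring)
  have hMn : (M a).Mem ((M n).inc ^ (p ^ m)) := tower' M hM hn _ (M n).mem_self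
  obtain ⟨q2, hq2, hq2'⟩ := exists_epi (M n) (M a) (p ^ m) hMn (M m) (fun {T} x => tower M hM hn' x) (by
    rw [hMo, hMo, hMo, ← pow_add]
    apply le_of_eq
    congr 1
    rw [hn]
    ring)
  have hKa : (W a).Mem (KP a).inc := by
    rw [hW]
    exact ((hKP a _).1 (KP a).mem_self).1
  obtain ⟨P, hP⟩ := exists_preim (W n) (W a) (KP a) (p ^ m) hWn hKa
  have oP := preim_ord (W n) (W a) (KP a) (p ^ m) hq' hKa P hP
  have hPn : ∀ {T : Over (Spec (CommRingCat.of k))} (x : T ⟶ X), P.Mem x → x ^ (p ^ n) = 1 :=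
    fun x h => hWW n x ((hP x).1 h).1
  obtain ⟨J, hJ⟩ := exists_orth (e := e n) (W n) P (fun x h => hWW n x h) hPn
  have hKn : ∀ {T : Over (Spec (CommRingCat.of k))} (x : T ⟶ X), (KP a).Mem x → x ^ (p ^ n) = 1 ∧ Kl.Mem x :=
    fun x h => ⟨hpw hn x ((hKP a x).1 h).1, ((hKP a x).1 h).2⟩
  have star1 := star_sub (hsk n) P (W n) (KP a) J hPn (fun x h => hWW n x h) (fun {T} x => by
    constructor
    · intro h
      obtain ⟨h1, h2⟩ := hKn x h
      refine ⟨(hP x).2 ⟨(hW n x).2 h1, mem_pow h _⟩, (hKl n x h1).1 h2⟩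
    · rintro ⟨h1, h2⟩
      exact ha n (by omega) x ((hKP n x).2 ⟨hPn x h1, (hKl n x (hPn x h1)).2 h2⟩)) hJ
  have hP0 : 0 < P.o := Nat.pos_of_ne_zero P.o_ne_zero
  have oJ : J.o = (W a).o := by
    have h1 : P.o * J.o = P.o * (W a).o := by rw [star1, oP, mul_comm]
    exact Nat.eq_of_mul_eq_mul_left hP0 h1
  have hWJ : ∀ {T : Over (Spec (CommRingCat.of k))} (y : T ⟶ X), (W a).Mem y → J.Mem y := by
    intro T y hy
    have hy1 := hWW a y hy
    rw [hJ, hW]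
    refine ⟨hpw hn y hy1, ?_⟩
    intro T' g x hx
    have hgy : (g ≫ y) ^ (p ^ a) = 1 := hWW a _ (mem_comp g hy)
    rw [comp_E e hcomp hn _ _ hgy (hPn x hx)]
    obtain ⟨h1, h2⟩ := (hKP a _).1 ((hP x).1 hx).2
    have h3 := (hKl a _ h1).1 h2 (𝟙 T') (g ≫ y) (mem_comp g hy)
    rw [Category.id_comp] at h3
    exact E_symm e hsk a _ _ h1 hgy h3
  have hJW : ∀ {T : Over (Spec (CommRingCat.of k))} (y : T ⟶ X), J.Mem y → (W a).Mem y :=
    fun y hy => le_of_ord (hWJ _ (W a).mem_self) oJ.le hy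
  obtain ⟨Wk, hWk⟩ := exists_orth (e := e n) P (F n) hPn (fun x h => hFW n x h)
  have star2 := star_sub (hsk n) P (F n) Wk (F a) hPn (fun x h => hFW n x h) hWk (fun {T} y => by
    constructor
    · intro h
      exact ⟨((tower F hF hn y).1 h).1, ((hJ y).1 (hWJ y ((hW a y).2 (hFW a y h)))).2⟩
    · rintro ⟨h1, h2⟩
      exact (tower F hF hn y).2 ⟨h1, hWW a y (hJW y ((hJ y).2 ⟨(hW n y).2 (hFW n y h1), h2⟩))⟩)
  obtain ⟨KM, hKM⟩ := exists_preim (M a) (W a) (KP a) 1 (by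
    rw [pow_one, hW]
    exact hFW a _ (hMF a _ (M a).mem_self)) hKa
  have hKMa : (M a).Mem KM.inc := ((hKM _).1 KM.mem_self).1
  obtain ⟨Q, hQ⟩ := exists_preim (M n) (M a) KM (p ^ m) hMn hKMa
  have oQ := preim_ord (M n) (M a) KM (p ^ m) hq2' hKMa Q hQ
  -- numbers
  have n1 : P.o = p ^ (m * (2 * (b + r))) * (KP a).o := by
    rw [hWo, hWo, hn, add_mul, pow_add, _root_.mul_assoc] at oP
    exact (Nat.eq_of_mul_eq_mul_left (pow_pos hppos _) oP).symm
  have n2 : Wk.o = p ^ (m * r) * (KP a).o := by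
    rw [hFo, hFo, n1, hn] at star2
    have h1 : p ^ ((a + m) * (2 * b + r)) * Wk.o = p ^ ((a + m) * (2 * b + r)) * (p ^ (m * r) * (KP a).o) := by
      rw [← star2]
      have : m * (2 * (b + r)) + a * (2 * b + r) = (a + m) * (2 * b + r) + m * r := by ring
      calc _ = p ^ (m * (2 * (b + r)) + a * (2 * b + r)) * (KP a).o := by rw [pow_add]; ring
        _ = _ := by rw [this, pow_add]; ring
    exact Nat.eq_of_mul_eq_mul_left (pow_pos hppos _) h1
  have n3 : Q.o = p ^ (m * r) * KM.o := by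
    rw [hMo, hMo, hn, add_mul, pow_add, _root_.mul_assoc] at oQ
    exact (Nat.eq_of_mul_eq_mul_left (pow_pos hppos _) oQ).symm
  have hPx : P.Mem x := by
    rw [hP, hW]
    refine ⟨hpw hn' x (hFW m x hx), ?_⟩
    rw [hFW m x hx]
    exact mem_one _ _
  have hWkx : Wk.Mem x := by
    rw [hWk]
    refine ⟨hPx, ?_⟩
    intro T' g y hy
    rw [comp_E e hcomp hn' _ _ (hFW m _ (mem_comp g hx)) (hFW n y hy)]
    exact hxF g _ (tower' F hF hn' y hy)
  obtain ⟨T', g, y, h1, h2, h3, h4, h5⟩ := exists_sum Q Wk (KP a) KM (by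
      rw [hWk, hP, hW]
      obtain ⟨h1, h2⟩ := (hQ _).1 Q.mem_self
      have h3 := hMF n _ h1
      refine ⟨⟨hFW n _ h3, ?_⟩, ?_⟩
      · have := ((hKM _).1 h2).2
        rwa [pow_one] at this
      · intro T' g y hy
        exact hMFe n _ _ (mem_comp g h1) hy) (by
      rw [hWk, hP, hW]
      obtain ⟨h1, h2⟩ := hKn _ (KP a).mem_self
      refine ⟨⟨h1, mem_pow (KP a).mem_self _⟩, ?_⟩
      intro T' g y hy
      exact (hKl n _ h1).1 h2 g y ((hW n y).2 (hFW n y hy))) (fun {T} x => by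
      rw [hKM, hQ, hKM, pow_one, pow_one]
      constructor
      · rintro ⟨h1, h2⟩
        exact ⟨⟨((tower M hM hn x).1 h1).1, mem_pow h1 _, mem_pow h2 _⟩, h2⟩
      · rintro ⟨⟨h1, -, -⟩, h2⟩
        exact ⟨(tower M hM hn x).2 ⟨h1, ((hKP a x).1 h2).1⟩, h2⟩) (by
      rw [n2, n3]
      apply le_of_eq
      ring) hWkx
  exact ⟨T', g, n, y, h2, h1, h3, ((hQ y).1 h4).1, (hKn _ h5).2⟩

end Core

/-- **COUNTING**, node (N7) of S14306. -/
theorem main : K270.MB.NodeCount.{u} := by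
  intro K _ p hp X _ _ W F M _ _ _ w hwc hwf hw f hfc hff hf i hic him b r hWo hFo hMo e hcomp hsk Kl _ j hjc hjf
    hrad hMF m T x hx
  have hW0 : ∀ m, ∃ S : Sub X, (∀ {T : Over (Spec (CommRingCat.of K))} (x : T ⟶ X), S.Mem x ↔ Fac (w m) x) ∧
      S.o = (W m).hom.finrank (pt K) := fun m => exists_sub (w m) (hwc m) (hwf m)
  have hF0 : ∀ m, ∃ S : Sub X, (∀ {T : Over (Spec (CommRingCat.of K))} (x : T ⟶ X), S.Mem x ↔ Fac (f m) x) ∧
      S.o = (F m).hom.finrank (pt K) := fun m => exists_sub (f m) (hfc m) (hff m)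
  have hM0 : ∀ m, ∃ S : Sub X, (∀ {T : Over (Spec (CommRingCat.of K))} (x : T ⟶ X), S.Mem x ↔ Fac (i m ≫ f m) x) ∧
      S.o = (M m).hom.finrank (pt K) := by
    intro m
    have h1 := (hic m).closed
    have h2 := (hfc m).closed
    have h3 := (hic m).mon
    have h4 := (hfc m).mon
    have h5 := hff m
    refine exists_sub (i m ≫ f m) ⟨inferInstance, ?_⟩ ?_
    · rw [Over.comp_left]
      infer_instance
    · rw [← Over.w (i m)]
      infer_instance
  choose W' hW'1 hW'2 using hW0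
  choose F' hF'1 hF'2 using hF0
  choose M' hM'1 hM'2 using hM0
  obtain ⟨Kl', hKl1, -⟩ := exists_sub j hjc hjf
  have hFt : ∀ (m : ℕ) {T : Over (Spec (CommRingCat.of K))} (x : T ⟶ F m), (x ≫ f m) ^ (p ^ m) = 1 :=
    fun m T x => ((hf m _).1 ⟨x, rfl⟩).2
  obtain ⟨T', g, m', y, h1, h2, h3, h4, h5⟩ := core hp W' F' M' (fun m {T} x => by rw [hW'1, hw])
    (fun m {T} x => by rw [hF'1, hF'1, hf]) (fun m {T} x => by rw [hM'1, hM'1, him]) e hcomp hsk
    (fun m {T} x h => by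
      rw [hM'1] at h
      rw [hF'1]
      obtain ⟨y, rfl⟩ := h
      exact ⟨y ≫ i m, Category.assoc _ _ _⟩)
    b r (fun m => by rw [hW'2, hWo]) (fun m => by rw [hF'2, hFo]) (fun m => by rw [hM'2, hMo]) Kl'
    (fun m {T} x h => by
      rw [hKl1, hrad m x h]
      constructor
      · intro h1 T' g y hy
        rw [hW'1, hw] at hy
        have hgx : (g ≫ x) ^ (p ^ m) = 1 := by rw [← MonObj.comp_pow, h, MonObj.comp_one]
        rw [E_eq _ _ _ hgx hy]
        exact h1 g y hgx hy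
      · intro h1 T' g y hgx hy
        rw [← E_eq _ _ _ hgx hy]
        exact h1 g y (by rw [hW'1, hw]; exact hy))
    (fun m {T} x y hx hy => by
      rw [hM'1] at hx
      rw [hF'1] at hy
      obtain ⟨x', rfl⟩ := hx
      obtain ⟨y', rfl⟩ := hy
      have h1 : (x' ≫ i m ≫ f m) ^ (p ^ m) = 1 := by
        rw [← Category.assoc]
        exact hFt m _
      rw [E_eq _ _ _ h1 (hFt m y')]
      exact hMF m x' y' h1 (hFt m y'))
    m T (x ≫ f m) ((hF'1 m _).2 ⟨x, rfl⟩) (fun {T'} g y hy => by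
      rw [hF'1] at hy
      obtain ⟨y', rfl⟩ := hy
      have h1 : (g ≫ x ≫ f m) ^ (p ^ m) = 1 := by
        rw [← Category.assoc]
        exact hFt m _
      rw [E_eq _ _ _ h1 (hFt m y')]
      exact hx g y' h1 (hFt m y'))
  rw [hM'1] at h4
  obtain ⟨v, rfl⟩ := h4
  exact ⟨T', g, m', v, h1, h2, h3, (hKl1 _).1 h5⟩

end K106.Count
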