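import Mathlib.AlgebraicGeometry.Morphisms.Finite
import Mathlib.CategoryTheory.Monoidal.Cartesian.Over
import Mathlib.CategoryTheory.Monoidal.Cartesian.Grp
import Mathlib.Algebra.Category.Ring.Constructions
import Mathlib.AlgebraicGeometry.Group.Abelian

/-!
# Functions on schemes over an affine base

* `Fn X`: the `R`-algebra of functions on the `R`-scheme `X`; `map`: pull back.
* `bijective_tensHom`: `Fn X ⊗ Fn Y = Fn (X ⊗ Y)` for affine `X`, `Y`.
* `exists_closed`: closed subschemes of affine schemes on points.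
* `exists_locus`: the closed subscheme of the points `x` of `A` over which a given function on `A ⊗ B` vanishes,
  `Fn B` free.
-/

set_option autoImplicit false
universe u

open CategoryTheory CategoryTheory.Limits MonoidalCategory CartesianMonoidalCategory AlgebraicGeometry
open scoped TensorProduct

noncomputable section

namespace K106.FunR

variable {R : Type u} [CommRing R]

/-- Functions on an `R`-scheme. -/
def Fn (X : Over (Spec (CommRingCat.of R))) : Type u := Γ(X.left, ⊤)

instance (X : Over (Spec (CommRingCat.of R))) : CommRing (Fn X) := inferInstanceAs (CommRing Γ(X.left, ⊤))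

/-- Pull back of functions, as a ring homomorphism. -/
def pr {T' T : Over (Spec (CommRingCat.of R))} (h : T' ⟶ T) : Fn T →+* Fn T' := h.left.appTop.hom

theorem pr_comp {T'' T' T : Over (Spec (CommRingCat.of R))} (h' : T'' ⟶ T') (h : T' ⟶ T) (v : Fn T) :
    pr h' (pr h v) = pr (h' ≫ h) v := by
  change (h'.left.appTop.hom) (h.left.appTop.hom v) = ((h' ≫ h).left.appTop.hom) v
  rw [Over.comp_left, Scheme.Hom.comp_appTop]
  rfl

theorem pr_id {T : Over (Spec (CommRingCat.of R))} (v : Fn T) : pr (𝟙 T) v = v := by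
  change ((𝟙 T.left : T.left ⟶ T.left).appTop.hom) v = v
  rw [Scheme.Hom.id_appTop]
  rfl

instance (X : Over (Spec (CommRingCat.of R))) : Algebra R (Fn X) :=
  ((X.hom.appTop.hom).comp ((Scheme.ΓSpecIso (CommRingCat.of R)).inv.hom)).toAlgebra

/-- Pull back of functions. -/
def map {T' T : Over (Spec (CommRingCat.of R))} (h : T' ⟶ T) : Fn T →ₐ[R] Fn T' :=
  { pr h with
    commutes' := fun a => by
      change (h.left.appTop.hom) (T.hom.appTop.hom _) = T'.hom.appTop.hom _
      rw [← CommRingCat.comp_apply, ← Scheme.Hom.comp_appTop, Over.w] }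

theorem map_comp {T'' T' T : Over (Spec (CommRingCat.of R))} (h' : T'' ⟶ T') (h : T' ⟶ T) (v : Fn T) :
    map h' (map h v) = map (h' ≫ h) v := pr_comp _ _ _

theorem map_id {T : Over (Spec (CommRingCat.of R))} (v : Fn T) : map (𝟙 T) v = v := pr_id _

/-- Two functions which agree on all affine schemes are equal. -/
theorem fn_ext {T : Over (Spec (CommRingCat.of R))} {v w : Fn T}
    (h : ∀ (U : Over (Spec (CommRingCat.of R))) (g : U ⟶ T) [IsAffine U.left], map g v = map g w) : v = w := by
  refine Scheme.OpenCover.ext_elem (X := T.left) (U := ⊤) v w T.left.affineCover fun i => ?_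
  have hi : IsAffine (Over.mk (T.left.affineCover.f i ≫ T.hom)).left :=
    inferInstanceAs (IsAffine (T.left.affineCover.X i))
  exact h (Over.mk (T.left.affineCover.f i ≫ T.hom)) (Over.homMk (T.left.affineCover.f i) rfl)

section Tens

variable (X Y : Over (Spec (CommRingCat.of R)))

/-- The comparison `Fn X ⊗ Fn Y ⟶ Fn (X ⊗ Y)`. -/
def tensHom : Fn X ⊗[R] Fn Y →ₐ[R] Fn (X ⊗ Y) :=
  Algebra.TensorProduct.lift (map (fst X Y)) (map (snd X Y)) (fun _ _ => Commute.all _ _)

theorem tensHom_tmul (a : Fn X) (b : Fn Y) : tensHom X Y (a ⊗ₜ b) = map (fst X Y) a * map (snd X Y) b :=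
  Algebra.TensorProduct.lift_tmul _ _ _ _ _

theorem bijective_tensHom [IsAffine X.left] [IsAffine Y.left] : Function.Bijective (tensHom X Y) := by
  have hp : IsPullback (fst X Y).left (snd X Y).left X.hom Y.hom := IsPullback.of_hasPullback _ _
  have h1 := isPushout_appTop_of_isPullback hp
  let i := Scheme.ΓSpecIso (CommRingCat.of R)
  have h2 : IsPushout (i.inv ≫ X.hom.appTop) (i.inv ≫ Y.hom.appTop) (fst X Y).left.appTop (snd X Y).left.appTop :=
    h1.of_iso i (Iso.refl _) (Iso.refl _) (Iso.refl _) (by simp) (by simp) (by simp) (by simp)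
  have h3 : IsPushout (i.inv ≫ X.hom.appTop) (i.inv ≫ Y.hom.appTop)
      (CommRingCat.ofHom (Algebra.TensorProduct.includeLeftRingHom : Fn X →+* Fn X ⊗[R] Fn Y))
      (CommRingCat.ofHom (Algebra.TensorProduct.includeRight : Fn Y →ₐ[R] Fn X ⊗[R] Fn Y).toRingHom) :=
    CommRingCat.isPushout_tensorProduct R (Fn X) (Fn Y)
  let e := h3.isoIsPushout _ _ h2
  have i1 := IsPushout.inl_isoIsPushout_hom _ _ h3 h2
  have i2 := IsPushout.inr_isoIsPushout_hom _ _ h3 h2
  have e1 : ∀ a : Fn X, e.hom.hom (a ⊗ₜ[R] (1 : Fn Y)) = map (fst X Y) a := fun a =>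
    congrArg (fun φ : CommRingCat.of (Fn X) ⟶ Γ((X ⊗ Y).left, ⊤) => φ.hom a) i1
  have e2 : ∀ b : Fn Y, e.hom.hom ((1 : Fn X) ⊗ₜ[R] b) = map (snd X Y) b := fun b =>
    congrArg (fun φ : CommRingCat.of (Fn Y) ⟶ Γ((X ⊗ Y).left, ⊤) => φ.hom b) i2
  have he : ∀ z, e.hom.hom z = tensHom X Y z := by
    intro z
    induction z using TensorProduct.induction_on with
    | zero => rw [map_zero, map_zero]; rfl
    | tmul a b =>
      have : a ⊗ₜ[R] b = (a ⊗ₜ[R] (1 : Fn Y)) * ((1 : Fn X) ⊗ₜ[R] b) := by
        rw [Algebra.TensorProduct.tmul_mul_tmul, mul_one, one_mul]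
      rw [this, map_mul, e1, e2, map_mul, tensHom_tmul, tensHom_tmul, map_one, map_one, mul_one, one_mul]; rfl
    | add x y hx hy => rw [map_add, map_add, hx, hy]; rfl
  have h4 : Function.Bijective e.hom.hom := ConcreteCategory.bijective_of_isIso e.hom
  have h5 : (tensHom X Y : Fn X ⊗[R] Fn Y → Fn (X ⊗ Y)) = e.hom.hom := funext fun z => (he z).symm
  rw [h5]
  exact h4

end Tens

section Closed

variable (K : Over (Spec (CommRingCat.of R)))

/-- The spectrum of the quotient of the functions by an ideal. -/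
def qmap (I : Ideal (Fn K)) : Γ(K.left, ⊤) ⟶ CommRingCat.of (Fn K ⧸ I) := CommRingCat.ofHom (Ideal.Quotient.mk I)

theorem exists_closed [IsAffine K.left] (I : Ideal (Fn K)) :
    ∃ (P : Over (Spec (CommRingCat.of R))) (i : P ⟶ K), IsClosedImmersion i.left ∧
      ∀ {T : Over (Spec (CommRingCat.of R))} (y : T ⟶ K), (∃ z : T ⟶ P, z ≫ i = y) ↔ ∀ a ∈ I, map y a = 0 := by
  let q := qmap K I
  let j : Spec (CommRingCat.of (Fn K ⧸ I)) ⟶ K.left := Spec.map q ≫ K.left.isoSpec.inv
  have hq : IsClosedImmersion (Spec.map q) :=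
    IsClosedImmersion.spec_of_surjective q (Ideal.Quotient.mk_surjective (I := I))
  have hj : IsClosedImmersion j := inferInstance
  refine ⟨Over.mk (j ≫ K.hom), Over.homMk j rfl, hj, ?_⟩
  have hjq : j.appTop = q ≫ (Scheme.ΓSpecIso _).inv := by
    have e1 : j ≫ K.left.toSpecΓ = Spec.map q := by
      change (Spec.map q ≫ K.left.isoSpec.inv) ≫ K.left.isoSpec.hom = _
      rw [Category.assoc, Iso.inv_hom_id, Category.comp_id]
    have e2 : K.left.toSpecΓ.appTop ≫ j.appTop = (Spec.map q).appTop := by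
      rw [← Scheme.Hom.comp_appTop, e1]
    rw [Scheme.toSpecΓ_appTop] at e2
    rw [← cancel_epi (Scheme.ΓSpecIso Γ(K.left, ⊤)).hom, e2, ← Category.assoc, ← Scheme.ΓSpecIso_naturality,
      Category.assoc, Iso.hom_inv_id, Category.comp_id]
  have hja : ∀ a ∈ I, (j.appTop).hom a = 0 := by
    intro a ha
    rw [hjq]
    have h0 : q.hom a = 0 := (Ideal.Quotient.eq_zero_iff_mem (I := I)).mpr ha
    change (Scheme.ΓSpecIso _).inv.hom (q.hom a) = 0
    rw [h0, map_zero]
  intro T y
  constructor
  · rintro ⟨z, rfl⟩ a ha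
    rw [← map_comp]
    have h0 : map (Over.homMk j rfl : Over.mk (j ≫ K.hom) ⟶ K) a = 0 := hja a ha
    rw [h0, map_zero]
  · intro h
    let r : CommRingCat.of (Fn K ⧸ I) ⟶ Γ(T.left, ⊤) :=
      CommRingCat.ofHom (Ideal.Quotient.lift I (pr y) h)
    have hr : q ≫ r = y.left.appTop := by
      ext a
      rfl
    have h1 : (T.left.toSpecΓ ≫ Spec.map r) ≫ j = y.left := by
      have e : y.left ≫ K.left.isoSpec.hom = T.left.toSpecΓ ≫ Spec.map y.left.appTop :=
        (Scheme.toSpecΓ_naturality y.left)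
      rw [Category.assoc, ← Category.assoc (Spec.map r), ← Spec.map_comp, hr, ← Category.assoc, ← e,
        Category.assoc, Iso.hom_inv_id, Category.comp_id]
    refine ⟨Over.homMk (T.left.toSpecΓ ≫ Spec.map r) ?_, Over.OverMorphism.ext h1⟩
    change (T.left.toSpecΓ ≫ Spec.map r) ≫ j ≫ K.hom = T.hom
    rw [← Category.assoc, h1, Over.w]

end Closed

section Locus

variable {A B : Over (Spec (CommRingCat.of R))} {J : Type*} [Fintype J] (b : Module.Basis J R (Fn B))

/-- The coefficients of a tensor. -/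
def coef (s : Fn A ⊗[R] Fn B) (j : J) : Fn A := (Algebra.TensorProduct.basis (Fn A) b).repr s j

theorem sum_coef (s : Fn A ⊗[R] Fn B) : ∑ j, coef b s j ⊗ₜ[R] b j = s := by
  conv_rhs => rw [← (Algebra.TensorProduct.basis (Fn A) b).sum_repr s]
  refine Finset.sum_congr rfl fun j _ => ?_
  rw [Algebra.TensorProduct.basis_apply, TensorProduct.smul_tmul', smul_eq_mul, mul_one]
  rfl

theorem map_whisker_tens {T : Over (Spec (CommRingCat.of R))} (x : T ⟶ A) (s : Fn A ⊗[R] Fn B) :
    map (x ▷ B) (tensHom A B s) = tensHom T B (∑ j, map x (coef b s j) ⊗ₜ[R] b j) := by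
  conv_lhs => rw [← sum_coef b s, map_sum, map_sum]
  rw [map_sum]
  refine Finset.sum_congr rfl fun j _ => ?_
  rw [tensHom_tmul, tensHom_tmul, map_mul, map_comp, map_comp, map_comp, whiskerRight_fst, whiskerRight_snd]

theorem whisker_eq_zero_iff [IsAffine B.left] {T : Over (Spec (CommRingCat.of R))} (x : T ⟶ A) (s : Fn A ⊗[R] Fn B) :
    map (x ▷ B) (tensHom A B s) = 0 ↔ ∀ j, map x (coef b s j) = 0 := by
  classical
  constructor
  · intro h j
    refine fn_ext fun U g hU => ?_
    rw [map_comp, map_zero]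
    have h1 : map ((g ≫ x) ▷ B) (tensHom A B s) = 0 := by
      rw [comp_whiskerRight, ← map_comp, h, map_zero]
    rw [map_whisker_tens b] at h1
    have h2 := (bijective_tensHom U B).1 (h1.trans (map_zero _).symm)
    have h7 := congrArg (fun w => (Algebra.TensorProduct.basis (Fn U) b).repr w j) h2
    simpa [Algebra.TensorProduct.basis_repr_tmul, Finsupp.single_apply] using h7
  · intro h
    rw [map_whisker_tens b]
    simp only [h, TensorProduct.zero_tmul, Finset.sum_const_zero, map_zero]

include b in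
/-- The locus in `A` over which a function on `A ⊗ B` vanishes. -/
theorem exists_locus [IsAffine A.left] [IsAffine B.left] (f : Fn (A ⊗ B)) :
    ∃ (P : Over (Spec (CommRingCat.of R))) (i : P ⟶ A), IsClosedImmersion i.left ∧
      ∀ {T : Over (Spec (CommRingCat.of R))} (x : T ⟶ A), (∃ z : T ⟶ P, z ≫ i = x) ↔ map (x ▷ B) f = 0 := by
  obtain ⟨s, rfl⟩ := (bijective_tensHom A B).2 f
  obtain ⟨P, i, hi, hP⟩ := exists_closed A (Ideal.span (Set.range fun j => coef b s j))
  refine ⟨P, i, hi, fun {T} x => ?_⟩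
  rw [hP, whisker_eq_zero_iff b]
  constructor
  · exact fun h j => h _ (Ideal.subset_span ⟨j, rfl⟩)
  · intro h a ha
    have hle : Ideal.span (Set.range fun j => coef b s j) ≤ RingHom.ker (map x) := by
      rw [Ideal.span_le]
      rintro _ ⟨j, rfl⟩
      exact h j
    exact hle ha

end Locus

end K106.FunR
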