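import Groth.Agent.GrpSch.K106.StarMain
import Groth.Agent.Sga3C.SubGrp

/-!
# The left kernel of a pairing of finite commutative group schemes
-/

set_option autoImplicit false
universe u

open CategoryTheory CategoryTheory.Limits MonoidalCategory CartesianMonoidalCategory MonObj AlgebraicGeometry
open scoped TensorProduct
open K999.Fun K106.TensRank K106.Pair K106.Star K525.AlgC K525.OrdC
open Groth.Agent.Sga3B.KerGrp Groth.Agent.Sga3C.QuotProps Groth.Agent.Sga3.H830
open Groth.Agent.Sga3.H830.AlgGrpAb Groth.Agent.Sga3.H830.CommGrpProd Groth.Agent.Sga3.H830.CommAux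

noncomputable section

namespace K106.Left

variable {k : Type u} [Field k]

section Closed

variable (K : Over (Spec (CommRingCat.of k)))

/-- The spectrum of the quotient of the functions by an ideal. -/
def qmap (I : Ideal (Fn K)) : Γ(K.left, ⊤) ⟶ CommRingCat.of (Fn K ⧸ I) := CommRingCat.ofHom (Ideal.Quotient.mk I)

theorem exists_closed [IsAffine K.left] (I : Ideal (Fn K)) :
    ∃ (P : Over (Spec (CommRingCat.of k))) (i : P ⟶ K), IsClosedImmersion i.left ∧
      ∀ {T : Over (Spec (CommRingCat.of k))} (y : T ⟶ K), (∃ z : T ⟶ P, z ≫ i = y) ↔ ∀ a ∈ I, map y a = 0 := by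
  let q := qmap K I
  let j : Spec (CommRingCat.of (Fn K ⧸ I)) ⟶ K.left := Spec.map q ≫ K.left.isoSpec.inv
  have hq : IsClosedImmersion (Spec.map q) :=
    IsClosedImmersion.spec_of_surjective q (Ideal.Quotient.mk_surjective (I := I))
  have hj : IsClosedImmersion j := inferInstance
  refine ⟨Over.mk (j ≫ K.hom), Over.homMk j rfl, hj, ?_⟩
  have hjq : j.appTop = q ≫ (Scheme.ΓSpecIso _).inv := by
    have e1 : j ≫ K.left.toSpecΓ = Spec.map q := by
      change (Spec.map q ≫ K.left.isoSpec.inv) ≫ K.left.isoSpec.hom = _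
      rw [Category.assoc, Iso.inv_hom_id, Category.comp_id]
    have e2 : K.left.toSpecΓ.appTop ≫ j.appTop = (Spec.map q).appTop := by
      rw [← Scheme.Hom.comp_appTop, e1]
    rw [Scheme.toSpecΓ_appTop] at e2
    rw [← cancel_epi (Scheme.ΓSpecIso Γ(K.left, ⊤)).hom, e2, ← Category.assoc, ← Scheme.ΓSpecIso_naturality,
      Category.assoc, Iso.hom_inv_id, Category.comp_id]
  have hja : ∀ a ∈ I, (j.appTop).hom a = 0 := by
    intro a ha
    rw [hjq]
    have h0 : q.hom a = 0 := (Ideal.Quotient.eq_zero_iff_mem (I := I)).mpr ha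
    change (Scheme.ΓSpecIso _).inv.hom (q.hom a) = 0
    rw [h0, map_zero]
  intro T y
  constructor
  · rintro ⟨z, rfl⟩ a ha
    rw [← map_comp]
    have h0 : map (Over.homMk j rfl : Over.mk (j ≫ K.hom) ⟶ K) a = 0 := hja a ha
    rw [h0, map_zero]
  · intro h
    let r : CommRingCat.of (Fn K ⧸ I) ⟶ Γ(T.left, ⊤) :=
      CommRingCat.ofHom (Ideal.Quotient.lift I (pr y) h)
    have hr : q ≫ r = y.left.appTop := by
      ext a
      rfl
    have h1 : (T.left.toSpecΓ ≫ Spec.map r) ≫ j = y.left := by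
      have e : y.left ≫ K.left.isoSpec.hom = T.left.toSpecΓ ≫ Spec.map y.left.appTop :=
        (Scheme.toSpecΓ_naturality y.left)
      rw [Category.assoc, ← Category.assoc (Spec.map r), ← Spec.map_comp, hr, ← Category.assoc, ← e,
        Category.assoc, Iso.hom_inv_id, Category.comp_id]
    refine ⟨Over.homMk (T.left.toSpecΓ ≫ Spec.map r) ?_, Over.OverMorphism.ext h1⟩
    change (T.left.toSpecΓ ≫ Spec.map r) ≫ j ≫ K.hom = T.hom
    rw [← Category.assoc, h1, Over.w]

end Closed

variable {A B : Over (Spec (CommRingCat.of k))} [IsFinite A.hom] [IsFinite B.hom]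

instance : IsAffine A.left := isAffine_left A
instance : IsAffine B.left := isAffine_left B
instance : Module.Finite k (Fn A) := finite_Fn A
instance : Module.Finite k (Fn B) := finite_Fn B

theorem map_whisker_tens {T : Over (Spec (CommRingCat.of k))} (x : T ⟶ A) (s : Fn A ⊗[k] Fn B) {J : Type*} [Fintype J]
    [DecidableEq J] (b : Module.Basis J k (Fn B)) :
    map (x ▷ B) (tensHom A B s) = tensHom T B (∑ j, map x (th s (b.coord j)) ⊗ₜ[k] b j) := by
  conv_lhs => rw [sum_th b s, map_sum, map_sum]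
  rw [map_sum]
  refine Finset.sum_congr rfl fun j _ => ?_
  rw [tensHom_tmul, tensHom_tmul, map_mul, map_comp, map_comp, map_comp, whiskerRight_fst, whiskerRight_snd]

theorem whisker_eq_zero_iff {T : Over (Spec (CommRingCat.of k))} (x : T ⟶ A) (s : Fn A ⊗[k] Fn B) {J : Type*} [Fintype J]
    [DecidableEq J] (b : Module.Basis J k (Fn B)) :
    map (x ▷ B) (tensHom A B s) = 0 ↔ ∀ j, map x (th s (b.coord j)) = 0 := by
  constructor
  · intro h j
    refine fn_ext fun U g hU => ?_
    rw [map_comp, map_zero]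
    have h1 : map ((g ≫ x) ▷ B) (tensHom A B s) = 0 := by
      rw [comp_whiskerRight, ← map_comp, h, map_zero]
    rw [map_whisker_tens _ _ b] at h1
    have h2 := (bijective_tensHom U B).1 (h1.trans (map_zero _).symm)
    have h7 := congrArg (fun w => (Algebra.TensorProduct.basis (Fn U) b).repr w j) h2
    simpa [Algebra.TensorProduct.basis_repr_tmul, Finsupp.single_apply] using h7
  · intro h
    rw [map_whisker_tens _ _ b]
    simp only [h, TensorProduct.zero_tmul, Finset.sum_const_zero, map_zero]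

theorem inLeft_iff_ideal [GrpObj A] [GrpObj B] (P : Pairing A B) : ∃ I : Ideal (Fn A),
    ∀ {T : Over (Spec (CommRingCat.of k))} (x : T ⟶ A), P.InLeft x ↔ ∀ a ∈ I, map x a = 0 := by
  classical
  let b := Module.finBasis k (Fn B)
  let s : Fn A ⊗[k] Fn B := P.ten - 1
  refine ⟨Ideal.span (Set.range fun j => th s (b.coord j)), fun {T} x => ?_⟩
  have hspan : (∀ a ∈ Ideal.span (Set.range fun j => th s (b.coord j)), map x a = 0) ↔
      ∀ j, map x (th s (b.coord j)) = 0 := by
    constructor
    · exact fun h j => h _ (Ideal.subset_span ⟨j, rfl⟩)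
    · intro h a ha
      have hle : Ideal.span (Set.range fun j => th s (b.coord j)) ≤ RingHom.ker (map x) := by
        rw [Ideal.span_le]
        rintro _ ⟨j, rfl⟩
        exact h j
      exact hle ha
  rw [hspan, ← whisker_eq_zero_iff x s b, P.inLeft_iff, map_sub, map_sub, map_one, map_one, P.tensHom_ten, sub_eq_zero]

theorem InLeft.one [GrpObj A] [GrpObj B] (P : Pairing A B) (T : Over (Spec (CommRingCat.of k))) :
    P.InLeft (1 : T ⟶ A) := by
  intro T' g y
  rw [MonObj.comp_one, P.one_left]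

theorem InLeft.mul [GrpObj A] [GrpObj B] (P : Pairing A B) {T : Over (Spec (CommRingCat.of k))} {x y : T ⟶ A}
    (hx : P.InLeft x) (hy : P.InLeft y) : P.InLeft (x * y) := by
  intro T' g z
  rw [comp_mul, P.mul_left, hx, hy, _root_.mul_one]

theorem InLeft.inv [GrpObj A] [GrpObj B] (P : Pairing A B) {T : Over (Spec (CommRingCat.of k))} {x : T ⟶ A}
    (hx : P.InLeft x) : P.InLeft x⁻¹ := by
  intro T' g z
  rw [GrpObj.comp_inv, P.inv_left, hx, inv_one]

/-- The left kernel exists. -/
theorem exists_left {A B : Alg k} [IsFinite A.obj.X.hom] [IsFinite B.obj.X.hom] (P : Pairing A.obj.X B.obj.X) :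
    ∃ (L : Alg k) (l : L ⟶ A), Mono l ∧
      ∀ {T : Over (Spec (CommRingCat.of k))} (x : T ⟶ A.obj.X), (∃ z : T ⟶ L.obj.X, z ≫ und l = x) ↔ P.InLeft x := by
  obtain ⟨I, hI⟩ := inLeft_iff_ideal P
  obtain ⟨N, i, hi, hN⟩ := exists_closed A.obj.X I
  have hm : Mono i := by
    have : Mono i.left := inferInstance
    exact (Over.forget _).mono_of_mono_map ‹_›
  have hN' : ∀ {T : Over (Spec (CommRingCat.of k))} (x : T ⟶ A.obj.X), (∃ z : T ⟶ N, z ≫ i = x) ↔ P.InLeft x := by
    intro T x
    rw [hN, hI]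
  obtain ⟨gN, hmon⟩ := Groth.Agent.Sga3C.SubGrp.exists_grpObj_of_mono i
    (by
      rw [hN']
      have e : (i ⊗ₘ i) ≫ μ[A.obj.X] = (fst N N ≫ i) * (snd N N ≫ i) := by
        rw [Hom.mul_def]
        congr 1
      rw [e]
      exact InLeft.mul P ((hN' _).1 ⟨_, rfl⟩) ((hN' _).1 ⟨_, rfl⟩))
    (by
      rw [hN', MonObj.one_eq_one]
      exact InLeft.one P _)
    (by
      rw [hN']
      have e : i ≫ ι[A.obj.X] = i⁻¹ := rfl
      rw [e]
      exact InLeft.inv P ((hN' _).1 ⟨𝟙 _, Category.id_comp _⟩))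
  have hc : IsCommMonObj N := isCommMonObj_of_mono i
  let L : Alg k := ⟨⟨N⟩, isAlg_of_isClosedImmersion i A.property⟩
  have hmu : Mono (und (mkHomP (G := L) (H := A) i hmon)) := hm
  exact ⟨L, mkHomP (G := L) (H := A) i hmon, mono_of_und _, fun {T} x => hN' x⟩

end K106.Left
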