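import Groth.Agent.GrpSch.K106.TensRank
import Groth.Agent.ThetaGrp.K999.Fun
import Groth.Agent.AbVar.K525.OrdC

/-!
# Bimultiplicative pairings of group schemes with values in units

* `Pairing A B`: functorial bimultiplicative pairings.
* `ten`: the tensor of a pairing of finite group schemes; `pull_eq_of_th`, `exists_conv`.
-/

set_option autoImplicit false
universe u

open CategoryTheory CategoryTheory.Limits MonoidalCategory CartesianMonoidalCategory MonObj AlgebraicGeometry
open scoped TensorProduct
open K999.Fun K106.TensRank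

noncomputable section

namespace K106.Pair

variable {k : Type u} [Field k]

/-! ### Functions on finite schemes over a field -/

theorem isAffine_left (A : Over (Spec (CommRingCat.of k))) [IsFinite A.hom] : IsAffine A.left :=
  isAffine_of_isAffineHom A.hom

theorem finite_Fn (A : Over (Spec (CommRingCat.of k))) [IsFinite A.hom] : Module.Finite k (Fn A) := by
  have h1 : (A.hom.appTop.hom).Finite := Scheme.Hom.finite_appTop A.hom
  have h2 : ((Scheme.ΓSpecIso (CommRingCat.of k)).inv.hom).Finite :=
    RingHom.Finite.of_surjective _ (ConcreteCategory.bijective_of_isIso (Scheme.ΓSpecIso (CommRingCat.of k)).inv).2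
  exact h1.comp h2

open K525.OrdC in
theorem finrank_Fn (A : Over (Spec (CommRingCat.of k))) [IsFinite A.hom] :
    Module.finrank k (Fn A) = Scheme.Hom.finrank A.hom (pt k) := by
  have hA := isAffine_left A
  obtain ⟨φ, hφ⟩ := Spec.map_surjective (A.left.isoSpec.inv ≫ A.hom)
  have h1 : Scheme.Hom.finrank A.hom = Scheme.Hom.finrank (Spec.map φ) := by
    rw [hφ, Scheme.Hom.finrank_comp_left_of_isIso]
  have hfin : IsFinite (Spec.map φ) := by rw [hφ]; infer_instance
  rw [IsFinite.SpecMap_iff] at hfin
  rw [h1, finrank_spec _ _ hfin]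
  have h2 : φ = (Scheme.ΓSpecIso (CommRingCat.of k)).inv ≫ A.hom.appTop := by
    apply Spec.map_injective
    rw [hφ, Spec.map_comp]
    have := Scheme.toSpecΓ_naturality A.hom
    have e1 : A.left.isoSpec.inv ≫ A.hom = Spec.map A.hom.appTop ≫ (Spec (CommRingCat.of k)).isoSpec.inv := by
      rw [Iso.inv_comp_eq, ← Category.assoc, Iso.eq_comp_inv]
      exact this
    rw [e1]
    congr 1
    rw [Scheme.isoSpec_Spec_inv]
  rw [h2]
  rfl

/-- Two functions which agree on all affine schemes are equal. -/
theorem fn_ext {T : Over (Spec (CommRingCat.of k))} {v w : Fn T}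
    (h : ∀ (U : Over (Spec (CommRingCat.of k))) (g : U ⟶ T) [IsAffine U.left], map g v = map g w) : v = w := by
  refine Scheme.OpenCover.ext_elem (X := T.left) (U := ⊤) v w T.left.affineCover fun i => ?_
  have hi : IsAffine (Over.mk (T.left.affineCover.f i ≫ T.hom)).left :=
    inferInstanceAs (IsAffine (T.left.affineCover.X i))
  exact h (Over.mk (T.left.affineCover.f i ≫ T.hom)) (Over.homMk (T.left.affineCover.f i) rfl)

/-! ### Functions as morphisms to the affine line -/

/-- The affine line. -/
def A1 (k : Type u) [Field k] : Over (Spec (CommRingCat.of k)) :=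
  Over.mk (Spec.map (CommRingCat.ofHom (algebraMap k (Polynomial k))))

/-- The structure morphism on functions. -/
def scal (T : Over (Spec (CommRingCat.of k))) : CommRingCat.of k ⟶ Γ(T.left, ⊤) := CommRingCat.ofHom (algebraMap k (Fn T))

theorem hom_eq (T : Over (Spec (CommRingCat.of k))) : T.left.toSpecΓ ≫ Spec.map (scal T) = T.hom := by
  have h1 : scal T = (Scheme.ΓSpecIso (CommRingCat.of k)).inv ≫ T.hom.appTop := rfl
  rw [h1, Spec.map_comp, ← Category.assoc, ← Scheme.toSpecΓ_naturality, Category.assoc, ← Scheme.isoSpec_Spec_inv]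
  change T.hom ≫ (Spec (CommRingCat.of k)).isoSpec.hom ≫ _ = _
  rw [Iso.hom_inv_id, Category.comp_id]

/-- The homomorphism from polynomials given by a function. -/
def poly {T : Over (Spec (CommRingCat.of k))} (v : Fn T) : CommRingCat.of (Polynomial k) ⟶ Γ(T.left, ⊤) :=
  CommRingCat.ofHom (Polynomial.aeval (R := k) v).toRingHom

theorem scal_poly {T : Over (Spec (CommRingCat.of k))} (v : Fn T) :
    CommRingCat.ofHom (algebraMap k (Polynomial k)) ≫ poly v = scal T := by
  ext a
  exact (Polynomial.aeval v).commutes a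

theorem poly_comp {T' T : Over (Spec (CommRingCat.of k))} (g : T' ⟶ T) (v : Fn T) :
    poly v ≫ g.left.appTop = poly (map g v) := by
  apply CommRingCat.hom_ext
  have h : ((map g).comp (Polynomial.aeval (R := k) v)) = Polynomial.aeval (R := k) (map g v) := by
    ext
    simp
  exact congrArg AlgHom.toRingHom h

/-- The morphism to the affine line given by a function. -/
def toA1 {T : Over (Spec (CommRingCat.of k))} (v : Fn T) : T ⟶ A1 k :=
  Over.homMk (T.left.toSpecΓ ≫ Spec.map (poly v)) (by
    change (_ ≫ _) ≫ Spec.map _ = _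
    rw [Category.assoc, ← Spec.map_comp, scal_poly, hom_eq])

theorem comp_toA1 {T' T : Over (Spec (CommRingCat.of k))} (g : T' ⟶ T) (v : Fn T) : g ≫ toA1 v = toA1 (map g v) := by
  ext1
  change g.left ≫ T.left.toSpecΓ ≫ Spec.map (poly v) = T'.left.toSpecΓ ≫ Spec.map (poly (map g v))
  rw [← Category.assoc, Scheme.toSpecΓ_naturality, Category.assoc, ← Spec.map_comp, poly_comp]

/-- The coordinate function. -/
def coordFn : Fn (A1 k) := (Scheme.ΓSpecIso (CommRingCat.of (Polynomial k))).inv.hom Polynomial.X

theorem map_toA1 {T : Over (Spec (CommRingCat.of k))} (v : Fn T) : map (toA1 v) coordFn = v := by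
  have h1 : (Scheme.ΓSpecIso (CommRingCat.of (Polynomial k))).inv ≫ (T.left.toSpecΓ ≫ Spec.map (poly v)).appTop =
      poly v := by
    rw [Scheme.Hom.comp_appTop, ← Category.assoc, ← Scheme.ΓSpecIso_inv_naturality,
      Category.assoc, Scheme.toSpecΓ_appTop, Iso.inv_hom_id, Category.comp_id]
  have h2 := congrArg (fun φ : CommRingCat.of (Polynomial k) ⟶ Γ(T.left, ⊤) => φ.hom Polynomial.X) h1
  refine Eq.trans h2 ?_
  exact Polynomial.aeval_X (R := k) v

theorem toA1_inj {T : Over (Spec (CommRingCat.of k))} {v w : Fn T} (h : toA1 v = toA1 w) : v = w := by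
  rw [← map_toA1 v, h, map_toA1]

/-- Functions inject along epimorphisms. -/
theorem map_injective {T' T : Over (Spec (CommRingCat.of k))} (g : T' ⟶ T) [Epi g] : Function.Injective (map g) := by
  intro v w h
  apply toA1_inj
  rw [← cancel_epi g, comp_toA1, comp_toA1, h]

/-- Descent of functions along a cover. -/
theorem exists_fn_desc {A X : Over (Spec (CommRingCat.of k))} (q : A ⟶ X) [Flat q.left] [Surjective q.left]
    [LocallyOfFinitePresentation q.left] (v : Fn A)
    (hv : ∀ (T : Over (Spec (CommRingCat.of k))) (x y : T ⟶ A), x ≫ q = y ≫ q → map x v = map y v) :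
    ∃ w : Fn X, map q w = v := by
  obtain ⟨g, hg⟩ := Groth.Agent.Sga3C.QuotProps.exists_desc q (toA1 v) (by
    intro T x y h
    rw [comp_toA1, comp_toA1, hv T x y h])
  refine ⟨map g coordFn, ?_⟩
  rw [map_comp, hg, map_toA1]

end K106.Pair
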