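import Groth.Agent.GrpSch.K106.Sub
import Groth.Agent.GrpSch.K270.MB.Shape

/-!
# Pairings on torsion points and finite subgroups

* `exists_sub`: a finite closed subgroup is a `Sub`.
* `Orth e S x`: the point `x` is orthogonal to `S`.
* `exists_orth`: the orthogonal of `S'` in `S` is a `Sub`; `star_sub`: orders of orthogonals.
-/

set_option autoImplicit false
universe u

open CategoryTheory CategoryTheory.Limits MonoidalCategory CartesianMonoidalCategory MonObj AlgebraicGeometry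
open K525.AlgC K525.OrdC K106.StarMain K106.FSub K106.FSub.Sub K270.MB K999.Fun
open Groth.Agent.Sga3.H830.CommGrpProd Groth.Agent.Sga3.H830.CommAux

noncomputable section

namespace K106.PairSub

variable {k : Type u} [Field k] {X : Over (Spec (CommRingCat.of k))} [GrpObj X] [IsCommMonObj X]

/-- A finite closed subgroup is a `Sub`. -/
theorem exists_sub {H : Over (Spec (CommRingCat.of k))} [GrpObj H] (i : H ⟶ X) (hi : IsClSub i) (hf : IsFinite H.hom) :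
    ∃ S : Sub X, (∀ {T : Over (Spec (CommRingCat.of k))} (x : T ⟶ X), S.Mem x ↔ Fac i x) ∧
      S.o = H.hom.finrank (pt k) := by
  have h0 := hi.closed
  have h1 := hi.mon
  have hm : Mono i := by
    have : Mono i.left := inferInstance
    exact (Over.forget _).mono_of_mono_map ‹_›
  have hc : IsCommMonObj H := isCommMonObj_of_mono i
  let G : Alg k := ⟨⟨H⟩, ⟨inferInstance, inferInstance⟩⟩
  refine ⟨⟨G, i, h1, hm, hf⟩, fun {T} x => Iff.rfl, ?_⟩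
  exact ord_of_finite G hf

variable {N : ℕ} (e : TPairing X N)

open Classical in
/-- The pairing, extended by `1`. -/
def E {T : Over (Spec (CommRingCat.of k))} (x y : T ⟶ X) : U T := if h : x ^ N = 1 ∧ y ^ N = 1 then e.e x y h.1 h.2 else 1

theorem E_eq {T : Over (Spec (CommRingCat.of k))} (x y : T ⟶ X) (hx : x ^ N = 1) (hy : y ^ N = 1) : E e x y = e.e x y hx hy :=
  dif_pos ⟨hx, hy⟩

/-- The point `x` is orthogonal to `S`. -/
def Orth (S : Sub X) {T : Over (Spec (CommRingCat.of k))} (x : T ⟶ X) : Prop :=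
  ∀ {T' : Over (Spec (CommRingCat.of k))} (g : T' ⟶ T) (y : T' ⟶ X), S.Mem y → E e (g ≫ x) y = 1

/-- The pairing on two subgroups. -/
def pairOf (S S' : Sub X) (hS : ∀ {T : Over (Spec (CommRingCat.of k))} (x : T ⟶ X), S.Mem x → x ^ N = 1)
    (hS' : ∀ {T : Over (Spec (CommRingCat.of k))} (x : T ⟶ X), S'.Mem x → x ^ N = 1) :
    Star.Pairing S.G.obj.X S'.G.obj.X where
  e x y := e.e (x ≫ S.inc) (y ≫ S'.inc) (hS _ ⟨x, rfl⟩) (hS' _ ⟨y, rfl⟩)
  nat {T' T} g x y := by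
    have h := e.nat g (x ≫ S.inc) (y ≫ S'.inc) (hS _ ⟨x, rfl⟩) (hS' _ ⟨y, rfl⟩)
      (hS _ ⟨g ≫ x, Category.assoc _ _ _⟩) (hS' _ ⟨g ≫ y, Category.assoc _ _ _⟩)
    have h2 := congrArg (fun u : U T' => (u : Γ(T'.left, ⊤))) h
    simp only [Category.assoc]
    exact h2
  mul_left x x' y := by
    simp only [MonObj.mul_comp]
    exact e.mul_left _ _ _ _ _ _ _
  mul_right x y y' := by
    simp only [MonObj.mul_comp]
    exact e.mul_right _ _ _ _ _ _ _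

variable {e}

theorem inLeft_iff (S S' : Sub X) (hS : ∀ {T : Over (Spec (CommRingCat.of k))} (x : T ⟶ X), S.Mem x → x ^ N = 1)
    (hS' : ∀ {T : Over (Spec (CommRingCat.of k))} (x : T ⟶ X), S'.Mem x → x ^ N = 1)
    {T : Over (Spec (CommRingCat.of k))} (x : T ⟶ S.G.obj.X) :
    (pairOf e S S' hS hS').InLeft x ↔ Orth e S' (x ≫ S.inc) := by
  constructor
  · rintro h T' g _ ⟨y, rfl⟩
    have h1 := h T' g y
    rw [← Category.assoc, E_eq e _ _ (hS _ ⟨g ≫ x, rfl⟩) (hS' _ ⟨y, rfl⟩)]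
    exact h1
  · intro h T' g y
    have h1 := h g (y ≫ S'.inc) ⟨y, rfl⟩
    rw [← Category.assoc, E_eq e _ _ (hS _ ⟨g ≫ x, rfl⟩) (hS' _ ⟨y, rfl⟩)] at h1
    exact h1

theorem inRight_iff (hsk : ∀ {T : Over (Spec (CommRingCat.of k))} (x y : T ⟶ X) (hx : x ^ N = 1) (hy : y ^ N = 1),
      e.e x y hx hy * e.e y x hy hx = 1)
    (S S' : Sub X) (hS : ∀ {T : Over (Spec (CommRingCat.of k))} (x : T ⟶ X), S.Mem x → x ^ N = 1)
    (hS' : ∀ {T : Over (Spec (CommRingCat.of k))} (x : T ⟶ X), S'.Mem x → x ^ N = 1)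
    {T : Over (Spec (CommRingCat.of k))} (y : T ⟶ S'.G.obj.X) :
    (pairOf e S S' hS hS').swap.InLeft y ↔ Orth e S (y ≫ S'.inc) := by
  constructor
  · rintro h T' g _ ⟨x, rfl⟩
    have h1 := h T' g x
    rw [← Category.assoc, E_eq e _ _ (hS' _ ⟨g ≫ y, rfl⟩) (hS _ ⟨x, rfl⟩)]
    have h2 := hsk (x ≫ S.inc) ((g ≫ y) ≫ S'.inc) (hS _ ⟨x, rfl⟩) (hS' _ ⟨g ≫ y, rfl⟩)
    have h3 : e.e (x ≫ S.inc) ((g ≫ y) ≫ S'.inc) (hS _ ⟨x, rfl⟩) (hS' _ ⟨g ≫ y, rfl⟩) = 1 := h1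
    rw [h3, _root_.one_mul] at h2
    exact h2
  · intro h T' g x
    have h1 := h g (x ≫ S.inc) ⟨x, rfl⟩
    rw [← Category.assoc, E_eq e _ _ (hS' _ ⟨g ≫ y, rfl⟩) (hS _ ⟨x, rfl⟩)] at h1
    have h2 := hsk (x ≫ S.inc) ((g ≫ y) ≫ S'.inc) (hS _ ⟨x, rfl⟩) (hS' _ ⟨g ≫ y, rfl⟩)
    rw [h1, _root_.mul_one] at h2
    exact h2

/-- Orthogonals exist. -/
theorem exists_orth (S S' : Sub X) (hS : ∀ {T : Over (Spec (CommRingCat.of k))} (x : T ⟶ X), S.Mem x → x ^ N = 1)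
    (hS' : ∀ {T : Over (Spec (CommRingCat.of k))} (x : T ⟶ X), S'.Mem x → x ^ N = 1) :
    ∃ L : Sub X, ∀ {T : Over (Spec (CommRingCat.of k))} (x : T ⟶ X), L.Mem x ↔ S.Mem x ∧ Orth e S' x := by
  obtain ⟨L, l, hl, hL⟩ := Left.exists_left (pairOf e S S' hS hS')
  refine ⟨S.of l, fun {T} x => ⟨fun hx => ⟨mem_of' S l hx, ?_⟩, ?_⟩⟩
  · obtain ⟨y, rfl⟩ := mem_of' S l hx
    rw [mem_of, hL, inLeft_iff] at hx
    exact hx
  · rintro ⟨⟨y, rfl⟩, h⟩
    rw [mem_of, hL, inLeft_iff]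
    exact h

/-- The orders of orthogonals. -/
theorem star_sub (hsk : ∀ {T : Over (Spec (CommRingCat.of k))} (x y : T ⟶ X) (hx : x ^ N = 1) (hy : y ^ N = 1),
      e.e x y hx hy * e.e y x hy hx = 1)
    (S S' L R : Sub X) (hS : ∀ {T : Over (Spec (CommRingCat.of k))} (x : T ⟶ X), S.Mem x → x ^ N = 1)
    (hS' : ∀ {T : Over (Spec (CommRingCat.of k))} (x : T ⟶ X), S'.Mem x → x ^ N = 1)
    (hL : ∀ {T : Over (Spec (CommRingCat.of k))} (x : T ⟶ X), L.Mem x ↔ S.Mem x ∧ Orth e S' x)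
    (hR : ∀ {T : Over (Spec (CommRingCat.of k))} (x : T ⟶ X), R.Mem x ↔ S'.Mem x ∧ Orth e S x) :
    S.o * R.o = S'.o * L.o := by
  obtain ⟨l, hl, hl'⟩ := exists_incl L S ((hL _).1 L.mem_self).1
  obtain ⟨r, hr, hr'⟩ := exists_incl R S' ((hR _).1 R.mem_self).1
  refine star (pairOf e S S' hS hS') l ?_ r ?_
  · intro T x
    rw [inLeft_iff]
    constructor
    · rintro ⟨z, rfl⟩
      rw [Category.assoc, hl']
      exact ((hL _).1 ⟨z, rfl⟩).2
    · intro h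
      obtain ⟨z, hz⟩ := (hL (x ≫ S.inc)).2 ⟨⟨x, rfl⟩, h⟩
      refine ⟨z, ?_⟩
      rw [← cancel_mono S.inc, Category.assoc, hl', hz]
  · intro T x
    rw [inRight_iff hsk]
    constructor
    · rintro ⟨z, rfl⟩
      rw [Category.assoc, hr']
      exact ((hR _).1 ⟨z, rfl⟩).2
    · intro h
      obtain ⟨z, hz⟩ := (hR (x ≫ S'.inc)).2 ⟨⟨x, rfl⟩, h⟩
      refine ⟨z, ?_⟩
      rw [← cancel_mono S'.inc, Category.assoc, hr', hz]

end K106.PairSub
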