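import Groth.Agent.GrpSch.K106.FunR
import Groth.Agent.Sga3C.SubGrp
import Groth.Agent.GrpSch.K270.MB.Shape

/-!
# Radicals of pairings over a local ring are closed subgroups
-/

set_option autoImplicit false
universe u

open CategoryTheory CategoryTheory.Limits MonoidalCategory CartesianMonoidalCategory MonObj AlgebraicGeometry
open K106.FunR K270.MB

noncomputable section

namespace K106.Rad

variable {R : Type u} [CommRing R]

theorem isAffine_left (A : Over (Spec (CommRingCat.of R))) [IsFinite A.hom] : IsAffine A.left :=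
  isAffine_of_isAffineHom A.hom

theorem finite_Fn (A : Over (Spec (CommRingCat.of R))) [IsFinite A.hom] : Module.Finite R (Fn A) := by
  have h1 : (A.hom.appTop.hom).Finite := Scheme.Hom.finite_appTop A.hom
  have h2 : ((Scheme.ΓSpecIso (CommRingCat.of R)).inv.hom).Finite :=
    RingHom.Finite.of_surjective _ (ConcreteCategory.bijective_of_isIso (Scheme.ΓSpecIso (CommRingCat.of R)).inv).2
  exact h1.comp h2

theorem flat_Fn (A : Over (Spec (CommRingCat.of R))) [IsAffine A.left] [Flat A.hom] : Module.Flat R (Fn A) := by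
  have h1 : (A.hom.appTop.hom).Flat := Scheme.Hom.flat_appTop A.hom
  have h2 : ((Scheme.ΓSpecIso (CommRingCat.of R)).inv.hom).Flat :=
    RingHom.Flat.of_bijective (ConcreteCategory.bijective_of_isIso (Scheme.ΓSpecIso (CommRingCat.of R)).inv)
  exact RingHom.Flat.comp h2 h1

variable {A B : Over (Spec (CommRingCat.of R))} [GrpObj A] [GrpObj B] (e : Pairing A B)

/-- The point `x` is in the radical. -/
def InRad {T : Over (Spec (CommRingCat.of R))} (x : T ⟶ A) : Prop :=
  ∀ {T' : Over (Spec (CommRingCat.of R))} (g : T' ⟶ T) (y : T' ⟶ B), e.e (g ≫ x) y = 1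

theorem one_left {T : Over (Spec (CommRingCat.of R))} (y : T ⟶ B) : e.e (1 : T ⟶ A) y = 1 := by
  have h := e.mul_left (1 : T ⟶ A) 1 y
  rw [_root_.mul_one] at h
  exact (left_eq_mul.1 h)

theorem inv_left {T : Over (Spec (CommRingCat.of R))} (x : T ⟶ A) (y : T ⟶ B) : e.e x⁻¹ y = (e.e x y)⁻¹ := by
  rw [eq_inv_iff_mul_eq_one, ← e.mul_left, _root_.inv_mul_cancel, one_left]

theorem inRad_one (T : Over (Spec (CommRingCat.of R))) : InRad e (1 : T ⟶ A) := by
  intro T' g y
  rw [MonObj.comp_one, one_left]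

theorem InRad.mul {T : Over (Spec (CommRingCat.of R))} {x y : T ⟶ A} (hx : InRad e x) (hy : InRad e y) :
    InRad e (x * y) := by
  intro T' g z
  rw [comp_mul, e.mul_left, hx, hy, _root_.mul_one]

theorem InRad.inv {T : Over (Spec (CommRingCat.of R))} {x : T ⟶ A} (hx : InRad e x) : InRad e x⁻¹ := by
  intro T' g z
  rw [GrpObj.comp_inv, inv_left, hx, inv_one]

theorem InRad.comp {T T' : Over (Spec (CommRingCat.of R))} (g : T' ⟶ T) {x : T ⟶ A} (hx : InRad e x) :
    InRad e (g ≫ x) := by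
  intro T'' h z
  rw [← Category.assoc]
  exact hx _ _

/-- The universal value. -/
def univ : Fn (A ⊗ B) := ((e.e (fst A B) (snd A B) : U (A ⊗ B)) : Γ((A ⊗ B).left, ⊤))

theorem inRad_iff {T : Over (Spec (CommRingCat.of R))} (x : T ⟶ A) :
    InRad e x ↔ map (x ▷ B) (univ e - 1) = 0 := by
  have h0 : ∀ {T' : Over (Spec (CommRingCat.of R))} (g : T' ⟶ A ⊗ B),
      ((e.e (g ≫ fst A B) (g ≫ snd A B) : U T') : Γ(T'.left, ⊤)) = map g (univ e) := by
    intro T' g
    rw [e.nat]
    rfl
  rw [map_sub, map_one, sub_eq_zero, ← h0, whiskerRight_fst, whiskerRight_snd]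
  constructor
  · intro h
    rw [h (fst T B) (snd T B)]
    rfl
  · intro h T' g y
    have h1 : e.e (fst T B ≫ x) (snd T B) = 1 := Units.ext h
    have h2 := e.nat (lift g y) (fst T B ≫ x) (snd T B)
    rw [h1, _root_.map_one, lift_snd, lift_fst_assoc] at h2
    exact h2

/-- The radical is a closed subgroup, over any ring over which the second group is finite free. -/
theorem exists_rad {J : Type*} [Fintype J] (b : Module.Basis J R (Fn B)) [IsAffine A.left] [IsAffine B.left] :
    ∃ (D : Over (Spec (CommRingCat.of R))) (_ : GrpObj D) (d : D ⟶ A), IsClSub d ∧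
      ∀ {T : Over (Spec (CommRingCat.of R))} (x : T ⟶ A), Fac d x ↔ InRad e x := by
  obtain ⟨D, d, hd, hD⟩ := exists_locus (A := A) b (univ e - 1)
  have hD' : ∀ {T : Over (Spec (CommRingCat.of R))} (x : T ⟶ A), (∃ z : T ⟶ D, z ≫ d = x) ↔ InRad e x := by
    intro T x
    rw [hD, inRad_iff]
  have hm : Mono d := by
    have : Mono d.left := inferInstance
    exact (Over.forget _).mono_of_mono_map ‹_›
  obtain ⟨gD, hmon⟩ := Groth.Agent.Sga3C.SubGrp.exists_grpObj_of_mono d
    (by
      rw [hD']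
      have e1 : (d ⊗ₘ d) ≫ μ[A] = (fst D D ≫ d) * (snd D D ≫ d) := by
        rw [Hom.mul_def]
        congr 1
      rw [e1]
      have k1 : InRad e (fst D D ≫ d) := (hD' _).1 ⟨_, rfl⟩
      have k2 : InRad e (snd D D ≫ d) := (hD' _).1 ⟨_, rfl⟩
      exact @InRad.mul _ _ _ _ _ _ e _ _ _ k1 k2)
    (by
      rw [hD', MonObj.one_eq_one]
      exact inRad_one e _)
    (by
      rw [hD']
      have e1 : d ≫ ι[A] = d⁻¹ := rfl
      rw [e1]
      have k1 : InRad e d := (hD' _).1 ⟨𝟙 _, Category.id_comp _⟩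
      exact @InRad.inv _ _ _ _ _ _ e _ _ k1)
  exact ⟨D, gD, d, ⟨hmon, hd⟩, fun {T} x => hD' x⟩

/-- The radical is a closed subgroup, over a local ring. -/
theorem exists_rad_local [IsLocalRing R] (hA : IsFinite A.hom) (hB : IsFinite B.hom) (hB' : Flat B.hom) :
    ∃ (D : Over (Spec (CommRingCat.of R))) (_ : GrpObj D) (d : D ⟶ A), IsClSub d ∧
      ∀ {T : Over (Spec (CommRingCat.of R))} (x : T ⟶ A), Fac d x ↔
        ∀ {T' : Over (Spec (CommRingCat.of R))} (g : T' ⟶ T) (y : T' ⟶ B), e.e (g ≫ x) y = 1 := by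
  have h1 := isAffine_left A
  have h2 := isAffine_left B
  have h3 := finite_Fn B
  have h4 := flat_Fn B
  have h5 : Module.Free R (Fn B) := Module.free_of_flat_of_isLocalRing
  exact exists_rad e (Module.Free.chooseBasis R (Fn B))

/-- **RAD**, a node of S14306. -/
theorem rad (R : Type u) [CommRing R] [IsLocalRing R] (F : Over (Spec (CommRingCat.of R))) [GrpObj F] [IsCommMonObj F]
    (h1 : IsFinite F.hom) (h2 : Flat F.hom) (e : Pairing F F) :
    ∃ (D : Over (Spec (CommRingCat.of R))) (_ : GrpObj D) (d : D ⟶ F), IsClSub d ∧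
      ∀ {T : Over (Spec (CommRingCat.of R))} (x : T ⟶ F),
        Fac d x ↔ ∀ {T' : Over (Spec (CommRingCat.of R))} (g : T' ⟶ T) (y : T' ⟶ F), e.e (g ≫ x) y = 1 :=
  exists_rad_local e h1 h1 h2

end K106.Rad
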