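import Groth.Agent.GrpSch.K106.Rad
import Groth.Agent.GrpSch.K270.MB.Shape2

/-!
# Node RAD of S14306
-/

set_option autoImplicit false
universe u

namespace K106.RadMain

/-- **RAD**. -/
theorem main : K270.MB.NodeRad.{u} := fun R _ _ F _ _ h1 h2 _ e => K106.Rad.rad R F h1 h2 e

end K106.RadMain
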