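import Groth.Agent.GrpSch.K106.Pair

/-!
# The counting formula for bimultiplicative pairings of finite commutative group schemes over a field

* `Pairing A B`: functorial bimultiplicative pairings with values in units.
* `Pairing.star`: `ord A * ord R = ord B * ord L` for the left and right kernels `L`, `R`.
-/

set_option autoImplicit false
universe u

open CategoryTheory CategoryTheory.Limits MonoidalCategory CartesianMonoidalCategory MonObj AlgebraicGeometry
open scoped TensorProduct
open K999.Fun K106.TensRank K106.Pair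

noncomputable section

namespace K106.Star

variable {k : Type u} [Field k]

/-- A functorial bimultiplicative pairing with values in units. -/
structure Pairing (A B : Over (Spec (CommRingCat.of k))) [GrpObj A] [GrpObj B] where
  /-- the pairing on points -/
  e : ∀ {T : Over (Spec (CommRingCat.of k))}, (T ⟶ A) → (T ⟶ B) → (Fn T)ˣ
  nat : ∀ {T' T : Over (Spec (CommRingCat.of k))} (g : T' ⟶ T) (x : T ⟶ A) (y : T ⟶ B),
    ((e (g ≫ x) (g ≫ y) : (Fn T')ˣ) : Fn T') = map g (e x y : Fn T)
  mul_left : ∀ {T : Over (Spec (CommRingCat.of k))} (x x' : T ⟶ A) (y : T ⟶ B), e (x * x') y = e x y * e x' y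
  mul_right : ∀ {T : Over (Spec (CommRingCat.of k))} (x : T ⟶ A) (y y' : T ⟶ B), e x (y * y') = e x y * e x y'

namespace Pairing

variable {A B : Over (Spec (CommRingCat.of k))} [GrpObj A] [GrpObj B] (P : Pairing A B)

/-- The pairing with the two factors exchanged. -/
def swap : Pairing B A where
  e y x := P.e x y
  nat g y x := P.nat g x y
  mul_left y y' x := P.mul_right x y y'
  mul_right y x x' := P.mul_left x x' y

theorem one_left {T : Over (Spec (CommRingCat.of k))} (y : T ⟶ B) : P.e (1 : T ⟶ A) y = 1 := by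
  have h := P.mul_left (1 : T ⟶ A) 1 y
  rw [_root_.mul_one] at h
  exact (left_eq_mul.1 h)

theorem one_right {T : Over (Spec (CommRingCat.of k))} (x : T ⟶ A) : P.e x (1 : T ⟶ B) = 1 := P.swap.one_left x

theorem inv_left {T : Over (Spec (CommRingCat.of k))} (x : T ⟶ A) (y : T ⟶ B) : P.e x⁻¹ y = (P.e x y)⁻¹ := by
  rw [eq_inv_iff_mul_eq_one, ← P.mul_left, _root_.inv_mul_cancel, P.one_left]

theorem pow_left {T : Over (Spec (CommRingCat.of k))} (x : T ⟶ A) (y : T ⟶ B) (n : ℕ) : P.e (x ^ n) y = P.e x y ^ n := by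
  induction n with
  | zero => rw [pow_zero, pow_zero, P.one_left]
  | succ n ih => rw [pow_succ, pow_succ, P.mul_left, ih]

theorem pow_right {T : Over (Spec (CommRingCat.of k))} (x : T ⟶ A) (y : T ⟶ B) (n : ℕ) : P.e x (y ^ n) = P.e x y ^ n :=
  P.swap.pow_left y x n

/-- The universal value. -/
def univ : Fn (A ⊗ B) := P.e (fst A B) (snd A B)

theorem e_eq {T : Over (Spec (CommRingCat.of k))} (x : T ⟶ A) (y : T ⟶ B) : (P.e x y : Fn T) = map (lift x y) P.univ := by
  rw [univ, ← P.nat, lift_fst, lift_snd]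

/-- The point `x` is in the left kernel. -/
def InLeft {T : Over (Spec (CommRingCat.of k))} (x : T ⟶ A) : Prop :=
  ∀ (T' : Over (Spec (CommRingCat.of k))) (g : T' ⟶ T) (y : T' ⟶ B), P.e (g ≫ x) y = 1

theorem inLeft_iff {T : Over (Spec (CommRingCat.of k))} (x : T ⟶ A) : P.InLeft x ↔ map (x ▷ B) P.univ = 1 := by
  constructor
  · intro h
    have h1 := congrArg (fun w : (Fn (T ⊗ B))ˣ => (w : Fn (T ⊗ B))) (h (T ⊗ B) (fst T B) (snd T B))
    simp only [Units.val_one] at h1
    rw [P.e_eq] at h1
    rw [← h1]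
    congr 2
  · intro h T' g y
    apply Units.ext
    have h1 : lift (g ≫ x) y = lift g y ≫ (x ▷ B) := by
      apply CartesianMonoidalCategory.hom_ext
      · rw [Category.assoc, whiskerRight_fst, lift_fst, lift_fst_assoc]
      · rw [Category.assoc, whiskerRight_snd, lift_snd, lift_snd]
    rw [P.e_eq, h1, ← map_comp, h, map_one, Units.val_one]

section Fin

variable [IsFinite A.hom] [IsFinite B.hom]

instance : IsAffine A.left := isAffine_left A
instance : IsAffine B.left := isAffine_left B
instance : Module.Finite k (Fn A) := finite_Fn A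
instance : Module.Finite k (Fn B) := finite_Fn B

/-- The tensor of the pairing. -/
def ten : Fn A ⊗[k] Fn B := (tens A B).symm P.univ

theorem tensHom_ten : tensHom A B P.ten = P.univ := (tens A B).apply_symm_apply _

/-- Coordinates of `e(x, -)`. -/
theorem pull_univ {T : Over (Spec (CommRingCat.of k))} (x : T ⟶ A) {J : Type*} [Fintype J] [DecidableEq J]
    (b : Module.Basis J k (Fn B)) :
    map (x ▷ B) P.univ = ∑ j, map (fst T B) (map x (th P.ten (b.coord j))) * map (snd T B) (b j) := by
  conv_lhs => rw [← P.tensHom_ten, sum_th b P.ten, map_sum, map_sum]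
  refine Finset.sum_congr rfl fun j _ => ?_
  rw [tensHom_tmul, map_mul, map_comp, map_comp, map_comp, whiskerRight_fst, whiskerRight_snd]

/-- Points with the same values of the contractions differ by the left kernel. -/
theorem inLeft_div {T : Over (Spec (CommRingCat.of k))} (x x' : T ⟶ A)
    (h : ∀ l, map x (th P.ten l) = map x' (th P.ten l)) : P.InLeft (x * x'⁻¹) := by
  classical
  have h1 : map (x ▷ B) P.univ = map (x' ▷ B) P.univ := by
    rw [P.pull_univ x (Module.finBasis k (Fn B)), P.pull_univ x' (Module.finBasis k (Fn B))]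
    exact Finset.sum_congr rfl fun j _ => by rw [h]
  intro T' g y
  have h2 : ∀ z : T ⟶ A, (P.e (g ≫ z) y : Fn T') = map (lift g y) (map (z ▷ B) P.univ) := by
    intro z
    rw [P.e_eq, map_comp]
    congr 1
    congr 1
    apply CartesianMonoidalCategory.hom_ext
    · rw [Category.assoc, whiskerRight_fst, lift_fst, lift_fst_assoc]
    · rw [Category.assoc, whiskerRight_snd, lift_snd, lift_snd]
  have h3 : P.e (g ≫ x) y = P.e (g ≫ x') y := Units.ext (by rw [h2, h2, h1])
  rw [comp_mul, GrpObj.comp_inv, P.mul_left, P.inv_left, h3, _root_.mul_inv_cancel]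

/-- If `T` is affine and two points differ by the left kernel the contractions agree. -/
theorem map_th_eq {T : Over (Spec (CommRingCat.of k))} [IsAffine T.left] (x x' : T ⟶ A) (h : P.InLeft (x * x'⁻¹))
    (l : Module.Dual k (Fn B)) : map x (th P.ten l) = map x' (th P.ten l) := by
  classical
  -- equality of the universal values
  have h1 : map (x ▷ B) P.univ = map (x' ▷ B) P.univ := by
    have h2 : ∀ z : T ⟶ A, map (z ▷ B) P.univ = (P.e (fst T B ≫ z) (snd T B) : Fn (T ⊗ B)) := by
      intro z
      rw [P.e_eq]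
      congr 2
    rw [h2, h2]
    have h3 := h (T ⊗ B) (fst T B) (snd T B)
    rw [comp_mul, GrpObj.comp_inv, P.mul_left, P.inv_left, mul_inv_eq_one] at h3
    rw [h3]
  let b := Module.finBasis k (Fn B)
  have h4 : ∀ z : T ⟶ A, map (z ▷ B) P.univ = tensHom T B (∑ j, map z (th P.ten (b.coord j)) ⊗ₜ[k] b j) := by
    intro z
    rw [P.pull_univ z b, map_sum]
    exact Finset.sum_congr rfl fun j _ => by rw [tensHom_tmul]
  rw [h4, h4] at h1
  have h5 := (bijective_tensHom T B).1 h1
  have h6 : ∀ j, map x (th P.ten (b.coord j)) = map x' (th P.ten (b.coord j)) := by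
    intro j
    have h7 := congrArg (fun w => (Algebra.TensorProduct.basis (Fn T) b).repr w j) h5
    simpa [Algebra.TensorProduct.basis_repr_tmul, Finsupp.single_apply] using h7
  have h8 : l = ∑ j, l (b j) • b.coord j := by
    apply b.ext
    intro i
    simp
  rw [h8, map_sum, map_sum, map_sum]
  refine Finset.sum_congr rfl fun j _ => ?_
  rw [map_smul, map_smul, map_smul, h6]

/-- The contraction with the counit is `1`. -/
theorem exists_th_one : ∃ l : Module.Dual k (Fn B), th P.ten l = 1 := by
  let ε : Fn B →ₐ[k] k := ((AlgEquiv.ofBijective (Algebra.ofId k (Fn (𝟙_ (Over (Spec (CommRingCat.of k))))))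
    bijective_algebraMap_unit).symm.toAlgHom).comp (map η[B])
  refine ⟨ε.toLinearMap, ?_⟩
  have h1 : ∀ t : Fn A ⊗[k] Fn B, th t ε.toLinearMap = map (lift (𝟙 A) (toUnit A ≫ η[B])) (tensHom A B t) := by
    intro t
    induction t using TensorProduct.induction_on with
    | zero => rw [th_zero, map_zero, map_zero]
    | tmul a b =>
      rw [th_tmul, tensHom_tmul, map_mul, map_comp, map_comp, lift_fst, lift_snd, map_id]
      have h2 : map (toUnit A ≫ η[B]) b = algebraMap k (Fn A) (ε b) := by
        rw [← map_comp]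
        have h3 : map η[B] b = algebraMap k _ (ε b) := by
          change _ = (AlgEquiv.ofBijective (Algebra.ofId k (Fn (𝟙_ (Over (Spec (CommRingCat.of k))))))
            bijective_algebraMap_unit) ((AlgEquiv.ofBijective (Algebra.ofId k (Fn (𝟙_ (Over (Spec (CommRingCat.of k))))))
            bijective_algebraMap_unit).symm (map η[B] b))
          rw [AlgEquiv.apply_symm_apply]
        rw [h3]
        exact (map (toUnit A)).commutes _
      rw [h2, mul_comm, ← Algebra.smul_def]
      rfl
    | add s t hs ht => rw [th_add, map_add, map_add, hs, ht]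
  rw [h1, P.tensHom_ten, ← P.e_eq]
  have h2 : (toUnit A ≫ η[B] : A ⟶ B) = 1 := by rw [MonObj.one_eq_one, MonObj.comp_one]
  have h3 := P.one_right (𝟙 A)
  rw [h2, h3, Units.val_one]

omit [IsFinite A.hom] [IsFinite B.hom] in
/-- The whiskered functions. -/
theorem map_whisker {Z : Over (Spec (CommRingCat.of k))} (f : Z ⟶ B) :
    map (A ◁ f) P.univ = (P.e (fst A Z) (snd A Z ≫ f) : Fn (A ⊗ Z)) := by
  rw [P.e_eq]
  congr 2

/-- The contractions are closed under products. -/
theorem exists_th_mul (l l' : Module.Dual k (Fn B)) : ∃ l'' : Module.Dual k (Fn B), th P.ten l'' = th P.ten l * th P.ten l' := by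
  have hBB : IsFinite (B ⊗ B).hom := by
    change IsFinite (pullback.fst B.hom B.hom ≫ B.hom)
    infer_instance
  have hBBa : IsAffine (B ⊗ B).left := isAffine_left (B ⊗ B)
  let D : Fn B →ₗ[k] Fn B ⊗[k] Fn B := (tens B B).symm.toLinearMap ∘ₗ (map μ[B]).toLinearMap
  let Φ : Fn A ⊗[k] (Fn B ⊗[k] Fn B) →ₐ[k] Fn (A ⊗ (B ⊗ B)) :=
    (tensHom A (B ⊗ B)).comp (Algebra.TensorProduct.congr (AlgEquiv.refl (R := k) (A₁ := Fn A)) (tens B B)).toAlgHom
  have hΦ : Function.Injective Φ :=
    (bijective_tensHom A (B ⊗ B)).1.comp (Algebra.TensorProduct.congr (AlgEquiv.refl (R := k) (A₁ := Fn A)) (tens B B)).injective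
  have h1 : ∀ s : Fn A ⊗[k] Fn B, Φ (LinearMap.lTensor (Fn A) D s) = map (A ◁ μ[B]) (tensHom A B s) := by
    intro s
    induction s using TensorProduct.induction_on with
    | zero => simp only [map_zero]
    | tmul a b =>
      have e1 : Φ (a ⊗ₜ[k] D b) = tensHom A (B ⊗ B) (a ⊗ₜ[k] (tens B B) ((tens B B).symm (map μ[B] b))) := rfl
      rw [LinearMap.lTensor_tmul, e1, AlgEquiv.apply_symm_apply, tensHom_tmul, tensHom_tmul, map_mul, map_comp, map_comp,
        map_comp, whiskerLeft_fst, whiskerLeft_snd]
    | add s t hs ht => rw [map_add, map_add, map_add, map_add, hs, ht]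
  have h2 : ∀ s : Fn A ⊗[k] Fn B, Φ (i12 s) = map (A ◁ fst B B) (tensHom A B s) := by
    intro s
    induction s using TensorProduct.induction_on with
    | zero => simp only [map_zero]
    | tmul a b =>
      have e1 : Φ (i12 (a ⊗ₜ[k] b)) = tensHom A (B ⊗ B) (a ⊗ₜ[k] (tens B B) (b ⊗ₜ[k] (1 : Fn B))) := rfl
      rw [e1, tens_tmul, map_one, _root_.mul_one, tensHom_tmul, tensHom_tmul, map_mul, map_comp, map_comp,
        map_comp, whiskerLeft_fst, whiskerLeft_snd]
    | add s t hs ht => rw [map_add, map_add, map_add, map_add, hs, ht]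
  have h3 : ∀ s : Fn A ⊗[k] Fn B, Φ (i13 s) = map (A ◁ snd B B) (tensHom A B s) := by
    intro s
    induction s using TensorProduct.induction_on with
    | zero => simp only [map_zero]
    | tmul a b =>
      have e1 : Φ (i13 (a ⊗ₜ[k] b)) = tensHom A (B ⊗ B) (a ⊗ₜ[k] (tens B B) ((1 : Fn B) ⊗ₜ[k] b)) := rfl
      rw [e1, tens_tmul, map_one, _root_.one_mul, tensHom_tmul, tensHom_tmul, map_mul, map_comp, map_comp,
        map_comp, whiskerLeft_fst, whiskerLeft_snd]
    | add s t hs ht => rw [map_add, map_add, map_add, map_add, hs, ht]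
  have h4 : LinearMap.lTensor (Fn A) D P.ten = i12 P.ten * i13 P.ten := by
    apply hΦ
    rw [h1, map_mul, h2, h3, P.tensHom_ten, P.map_whisker, P.map_whisker, P.map_whisker, ← Units.val_mul,
      ← P.mul_right, Hom.mul_def]
    congr 3
    rw [← CartesianMonoidalCategory.comp_lift, lift_fst_snd, Category.comp_id]
  refine ⟨prodForm l l' ∘ₗ D, ?_⟩
  rw [← th_map, h4, th_i12_mul_i13]

end Fin

end Pairing

end K106.Star
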