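import Groth.Agent.GrpSch.K106.Star
import Mathlib.Algebra.Category.Ring.Epi

/-!
# The counting formula for bimultiplicative pairings of finite commutative group schemes over a field

* `star`: `ord A * ord R = ord B * ord L` for the left and right kernels `L`, `R` of a pairing `A × B → 𝔾_m`.
* `exists_left`: the left kernel exists.
-/

set_option autoImplicit false
universe u

open CategoryTheory CategoryTheory.Limits MonoidalCategory CartesianMonoidalCategory MonObj AlgebraicGeometry
open scoped TensorProduct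
open K999.Fun K106.TensRank K106.Pair K106.Star K525.AlgC K525.OrdC

noncomputable section

namespace K106.StarMain

variable {k : Type u} [Field k]

/-- Lifting a point along a cover. -/
theorem exists_lift_cover {S : Scheme.{u}} {A Q T : Over S} (q : A ⟶ Q) [Flat q.left] [Surjective q.left]
    [LocallyOfFinitePresentation q.left] (x : T ⟶ Q) :
    ∃ (T' : Over S) (g : T' ⟶ T) (y : T' ⟶ A), Flat g.left ∧ Surjective g.left ∧
      LocallyOfFinitePresentation g.left ∧ (QuasiCompact q.left → QuasiCompact g.left) ∧ g ≫ x = y ≫ q := by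
  refine ⟨Over.mk (pullback.fst x.left q.left ≫ T.hom), Over.homMk (pullback.fst x.left q.left) rfl,
    Over.homMk (pullback.snd x.left q.left) ?_, ?_, ?_, ?_, ?_, ?_⟩
  · change pullback.snd x.left q.left ≫ A.hom = pullback.fst x.left q.left ≫ T.hom
    rw [← Over.w q, ← Over.w x, pullback.condition_assoc]
  · change Flat (pullback.fst x.left q.left)
    infer_instance
  · change Surjective (pullback.fst x.left q.left)
    infer_instance
  · change LocallyOfFinitePresentation (pullback.fst x.left q.left)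
    infer_instance
  · intro hq
    change QuasiCompact (pullback.fst x.left q.left)
    infer_instance
  · ext1
    exact pullback.condition

theorem kernel_of_mono {L A : Alg k} (l : L ⟶ A) [Mono l] {T : Over (Spec (CommRingCat.of k))} (x : T ⟶ A.obj.X)
    (hx : x ≫ und (cokernel.π l) = 1) : ∃ t : T ⟶ L.obj.X, t ≫ und l = x :=
  kernel_pts l (cokernel.π l) (fun _ x hx => ⟨Abelian.monoLift l x hx, Abelian.monoLift_comp l x hx⟩) x hx

section Main

variable {A B : Alg k} [IsFinite A.obj.X.hom] [IsFinite B.obj.X.hom] (P : Pairing A.obj.X B.obj.X)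
  {L : Alg k} (l : L ⟶ A) [Mono l]
  (hL : ∀ {T : Over (Spec (CommRingCat.of k))} (x : T ⟶ A.obj.X), (∃ z : T ⟶ L.obj.X, z ≫ und l = x) ↔ P.InLeft x)

include hL in
omit [IsFinite A.obj.X.hom] [IsFinite B.obj.X.hom] in
theorem inLeft_iff_quot {T : Over (Spec (CommRingCat.of k))} (x y : T ⟶ A.obj.X) :
    P.InLeft (x * y⁻¹) ↔ x ≫ und (cokernel.π l) = y ≫ und (cokernel.π l) := by
  rw [← hL]
  constructor
  · rintro ⟨z, hz⟩
    have h1 : (x * y⁻¹) ≫ und (cokernel.π l) = 1 := by
      rw [← hz, Category.assoc, ← und_comp, cokernel.condition, und_zero, MonObj.comp_one]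
    rw [MonObj.mul_comp, GrpObj.inv_comp, mul_inv_eq_one] at h1
    exact h1
  · intro h
    apply kernel_of_mono l
    rw [MonObj.mul_comp, GrpObj.inv_comp, h, _root_.mul_inv_cancel]

include hL in
theorem exists_fn (f : Module.Dual k (Fn B.obj.X)) : ∃ w : Fn (cokernel l).obj.X, map (und (cokernel.π l)) w = th P.ten f := by
  obtain ⟨h1, h2, h3⟩ := W_of_epi (cokernel.π l)
  apply exists_fn_desc
  intro T x y hxy
  refine fn_ext fun U g hU => ?_
  rw [map_comp, map_comp]
  apply P.map_th_eq
  rw [inLeft_iff_quot P l hL, Category.assoc, Category.assoc, hxy]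

/-- The functions on the quotient whose pull backs are contractions. -/
def V : Subalgebra k (Fn (cokernel l).obj.X) where
  carrier := {w | map (und (cokernel.π l)) w ∈ LinearMap.range (th P.ten)}
  mul_mem' := by
    rintro a b ⟨f, hf⟩ ⟨g, hg⟩
    obtain ⟨h, hh⟩ := P.exists_th_mul f g
    exact ⟨h, by rw [hh, hf, hg, map_mul]⟩
  add_mem' := by
    rintro a b ⟨f, hf⟩ ⟨g, hg⟩
    exact ⟨f + g, by rw [map_add, map_add, hf, hg]⟩
  algebraMap_mem' := by
    intro c
    obtain ⟨h, hh⟩ := P.exists_th_one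
    refine ⟨c • h, ?_⟩
    rw [map_smul, hh, AlgHom.commutes, Algebra.algebraMap_eq_smul_one]

theorem mem_V (w : Fn (cokernel l).obj.X) : w ∈ V P l ↔ map (und (cokernel.π l)) w ∈ LinearMap.range (th P.ten) := Iff.rfl

theorem isFinite_coker : IsFinite (cokernel l).obj.X.hom := by
  rw [← ord_ne_zero_iff]
  have h1 := ord_mul (ShortComplex.mk l (cokernel.π l) (cokernel.condition l))
    { exact := ShortComplex.exact_cokernel l
      mono_f := inferInstance
      epi_g := inferInstance }
  have h2 : ord A ≠ 0 := (ord_ne_zero_iff A).2 inferInstance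
  intro h3
  apply h2
  change ord A = ord L * ord (cokernel l) at h1
  rw [h1, h3, mul_zero]

/-- A point of an affine scheme from a ring homomorphism. -/
theorem exists_pt {Q : Over (Spec (CommRingCat.of k))} [IsAffine Q.left] {R : CommRingCat.{u}} (s : CommRingCat.of k ⟶ R)
    (g : Γ(Q.left, ⊤) ⟶ R) (hg : scal Q ≫ g = s) :
    ∃ x : Over.mk (Spec.map s) ⟶ Q, ∀ w : Fn Q, map x w = (Scheme.ΓSpecIso R).inv.hom (g.hom w) := by
  have e : Q.left.isoSpec.inv ≫ Q.hom = Spec.map (scal Q) := by
    rw [Iso.inv_comp_eq]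
    exact (hom_eq Q).symm
  refine ⟨Over.homMk (Spec.map g ≫ Q.left.isoSpec.inv) ?_, ?_⟩
  · change (Spec.map g ≫ Q.left.isoSpec.inv) ≫ Q.hom = Spec.map s
    rw [Category.assoc, e, ← Spec.map_comp, hg]
  · intro w
    have h1 : (Spec.map g ≫ Q.left.isoSpec.inv).appTop = g ≫ (Scheme.ΓSpecIso R).inv := by
      have h2 : Q.left.isoSpec.hom.appTop ≫ Q.left.isoSpec.inv.appTop = 𝟙 _ := by
        rw [← Scheme.Hom.comp_appTop, Iso.inv_hom_id, Scheme.Hom.id_appTop]
      have h3 : Q.left.isoSpec.hom.appTop = (Scheme.ΓSpecIso Γ(Q.left, ⊤)).hom := Scheme.toSpecΓ_appTop _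
      rw [h3] at h2
      have h4 : Q.left.isoSpec.inv.appTop = (Scheme.ΓSpecIso Γ(Q.left, ⊤)).inv := by
        rw [← cancel_epi (Scheme.ΓSpecIso Γ(Q.left, ⊤)).hom, h2, Iso.hom_inv_id]
      rw [Scheme.Hom.comp_appTop, h4, ← Scheme.ΓSpecIso_inv_naturality]
    exact congrArg (fun φ : Γ(Q.left, ⊤) ⟶ Γ(Spec R, ⊤) => φ.hom w) h1

include hL in
theorem V_eq_top : V P l = ⊤ := by
  have hfin := isFinite_coker l
  have haff : IsAffine (cokernel l).obj.X.left := isAffine_left _
  have hmf : Module.Finite k (Fn (cokernel l).obj.X) := finite_Fn _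
  let f : CommRingCat.of (V P l) ⟶ Γ((cokernel l).obj.X.left, ⊤) := CommRingCat.ofHom (V P l).val.toRingHom
  have hf : RingHom.Finite f.hom := by
    have : Module.Finite (V P l) (Fn (cokernel l).obj.X) := Module.Finite.of_restrictScalars_finite k _ _
    exact this
  obtain ⟨q1, q2, q3⟩ := W_of_epi (cokernel.π l)
  have hepi : Epi f := by
    refine ⟨fun {R} g h hgh => ?_⟩
    have hV : ∀ w ∈ V P l, g.hom w = h.hom w := fun w hw =>
      congrArg (fun φ : CommRingCat.of (V P l) ⟶ R => φ.hom ⟨w, hw⟩) hgh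
    have hs : scal (cokernel l).obj.X ≫ g = scal (cokernel l).obj.X ≫ h := by
      ext c
      exact hV _ ((V P l).algebraMap_mem c)
    obtain ⟨x, hx⟩ := exists_pt (scal (cokernel l).obj.X ≫ g) g rfl
    obtain ⟨x', hx'⟩ := exists_pt (scal (cokernel l).obj.X ≫ g) h hs.symm
    obtain ⟨T₁, g₁, y₁, a1, a2, a3, -, a5⟩ := exists_lift_cover (und (cokernel.π l)) x
    obtain ⟨T₂, g₂, y₂, b1, b2, b3, -, b5⟩ := exists_lift_cover (und (cokernel.π l)) (g₁ ≫ x')
    have key : P.InLeft ((g₂ ≫ y₁) * y₂⁻¹) := by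
      apply P.inLeft_div
      intro m
      obtain ⟨w, hw⟩ := exists_fn P l hL m
      have hwV : w ∈ V P l := by
        rw [mem_V, hw]
        exact ⟨m, rfl⟩
      rw [← hw, map_comp, map_comp, Category.assoc, ← a5, ← b5, ← map_comp, ← map_comp, ← map_comp, ← map_comp,
        hx, hx', hV w hwV]
    rw [inLeft_iff_quot P l hL, Category.assoc, ← a5, ← b5] at key
    have e1 : Epi g₁ := Groth.Agent.Sga3C.QuotProps.epi_of_flat_surjective g₁
    have e2 : Epi g₂ := Groth.Agent.Sga3C.QuotProps.epi_of_flat_surjective g₂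
    rw [cancel_epi, cancel_epi] at key
    ext w
    have h1 := hx w
    rw [key, hx'] at h1
    exact ((ConcreteCategory.bijective_of_isIso (Scheme.ΓSpecIso R).inv).1 h1).symm
  have hsurj := RingHom.surjective_of_epi_of_finite f hf
  rw [eq_top_iff]
  intro w _
  obtain ⟨v, hv⟩ := hsurj w
  rw [← hv]
  exact v.2

include hL in
/-- The order of the quotient by the left kernel is the rank of the tensor. -/
theorem ord_coker : ord (cokernel l) = Module.finrank k (LinearMap.range (th P.ten)) := by
  have hfin := isFinite_coker l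
  have hmf : Module.Finite k (Fn (cokernel l).obj.X) := finite_Fn _
  obtain ⟨q1, q2, q3⟩ := W_of_epi (cokernel.π l)
  have hep : Epi (und (cokernel.π l)) := Groth.Agent.Sga3C.QuotProps.epi_of_flat_surjective _
  rw [ord_of_finite _ hfin, ← finrank_Fn]
  have h1 : LinearMap.range (th P.ten) = LinearMap.range (map (und (cokernel.π l))).toLinearMap := by
    ext v
    constructor
    · rintro ⟨m, rfl⟩
      obtain ⟨w, hw⟩ := exists_fn P l hL m
      exact ⟨w, hw⟩
    · rintro ⟨w, rfl⟩
      have : w ∈ V P l := by rw [V_eq_top P l hL]; trivial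
      exact this
  rw [h1, LinearMap.finrank_range_of_inj]
  exact map_injective _

end Main

theorem ord_mono {L A : Alg k} (l : L ⟶ A) [Mono l] : ord A = ord L * ord (cokernel l) :=
  ord_mul (ShortComplex.mk l (cokernel.π l) (cokernel.condition l))
    { exact := ShortComplex.exact_cokernel l
      mono_f := inferInstance
      epi_g := inferInstance }

theorem ten_swap {A B : Over (Spec (CommRingCat.of k))} [GrpObj A] [GrpObj B] [IsFinite A.hom] [IsFinite B.hom]
    (P : Pairing A B) : P.swap.ten = TensorProduct.comm k (Fn A) (Fn B) P.ten := by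
  apply (bijective_tensHom B A).1
  rw [P.swap.tensHom_ten]
  have h1 : ∀ t : Fn A ⊗[k] Fn B, tensHom B A (TensorProduct.comm k (Fn A) (Fn B) t) =
      map (lift (snd B A) (fst B A)) (tensHom A B t) := by
    intro t
    induction t using TensorProduct.induction_on with
    | zero => simp only [map_zero]
    | tmul a b =>
      rw [TensorProduct.comm_tmul, tensHom_tmul, tensHom_tmul, map_mul, map_comp, map_comp, lift_fst, lift_snd, mul_comm]
    | add s t hs ht => rw [map_add, map_add, map_add, map_add, hs, ht]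
  rw [h1, P.tensHom_ten, ← P.e_eq]
  rfl

/-- **The counting formula.** -/
theorem star {A B : Alg k} [IsFinite A.obj.X.hom] [IsFinite B.obj.X.hom] (P : Pairing A.obj.X B.obj.X)
    {L : Alg k} (l : L ⟶ A) [Mono l]
    (hL : ∀ {T : Over (Spec (CommRingCat.of k))} (x : T ⟶ A.obj.X), (∃ z : T ⟶ L.obj.X, z ≫ und l = x) ↔ P.InLeft x)
    {R : Alg k} (r : R ⟶ B) [Mono r]
    (hR : ∀ {T : Over (Spec (CommRingCat.of k))} (x : T ⟶ B.obj.X), (∃ z : T ⟶ R.obj.X, z ≫ und r = x) ↔ P.swap.InLeft x) :
    ord A * ord R = ord B * ord L := by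
  have h1 := ord_coker P l hL
  have h2 := ord_coker P.swap r hR
  have h3 : ord (cokernel l) = ord (cokernel r) := by
    rw [h1, h2, ten_swap]
    exact finrank_range_th P.ten
  rw [ord_mono l, ord_mono r, h3]
  ring

end K106.StarMain
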