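import Groth.Agent.GrpSch.K106.Left

/-!
# Finite subgroups of a commutative group scheme over a field, on points

* `Sub X`: finite commutative group schemes with a monomorphism to `X`; `Sub.Mem`: points.
* `exists_preim`, `preim_ord`, `exists_preim_surj`, `le_of_ord`, `exists_sum`: counting lemmas.
-/

set_option autoImplicit false
universe u

open CategoryTheory CategoryTheory.Limits MonoidalCategory CartesianMonoidalCategory MonObj AlgebraicGeometry
open K525.AlgC K525.OrdC K106.StarMain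
open Groth.Agent.Sga3.H830.CommGrpProd

noncomputable section

namespace K106.FSub

variable {k : Type u} [Field k]

/-- A finite subgroup of `X`. -/
structure Sub (X : Over (Spec (CommRingCat.of k))) [GrpObj X] where
  /-- the group -/
  G : Alg k
  /-- the inclusion -/
  inc : G.obj.X ⟶ X
  mon : IsMonHom inc
  mono : Mono inc
  fin : IsFinite G.obj.X.hom

attribute [instance] Sub.mon Sub.mono Sub.fin

namespace Sub

variable {X : Over (Spec (CommRingCat.of k))} [GrpObj X] [IsCommMonObj X]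

/-- The points of a subgroup. -/
def Mem (S : Sub X) {T : Over (Spec (CommRingCat.of k))} (x : T ⟶ X) : Prop := ∃ y : T ⟶ S.G.obj.X, y ≫ S.inc = x

/-- The order. -/
def o (S : Sub X) : ℕ := ord S.G

omit [IsCommMonObj X] in
theorem o_ne_zero (S : Sub X) : S.o ≠ 0 := (ord_ne_zero_iff S.G).2 S.fin

omit [IsCommMonObj X] in
theorem mem_comp {S : Sub X} {T T' : Over (Spec (CommRingCat.of k))} (g : T' ⟶ T) {x : T ⟶ X} (h : S.Mem x) :
    S.Mem (g ≫ x) := by
  obtain ⟨y, rfl⟩ := h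
  exact ⟨g ≫ y, Category.assoc _ _ _⟩

theorem mem_one (S : Sub X) (T : Over (Spec (CommRingCat.of k))) : S.Mem (1 : T ⟶ X) := ⟨1, MonObj.one_comp _⟩

omit [IsCommMonObj X] in
theorem mem_mul {S : Sub X} {T : Over (Spec (CommRingCat.of k))} {x y : T ⟶ X} (hx : S.Mem x) (hy : S.Mem y) :
    S.Mem (x * y) := by
  obtain ⟨a, rfl⟩ := hx
  obtain ⟨b, rfl⟩ := hy
  exact ⟨a * b, MonObj.mul_comp _ _ _⟩

theorem mem_inv {S : Sub X} {T : Over (Spec (CommRingCat.of k))} {x : T ⟶ X} (hx : S.Mem x) : S.Mem x⁻¹ := by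
  obtain ⟨a, rfl⟩ := hx
  exact ⟨a⁻¹, GrpObj.inv_comp _ _⟩

theorem mem_pow {S : Sub X} {T : Over (Spec (CommRingCat.of k))} {x : T ⟶ X} (hx : S.Mem x) (n : ℕ) : S.Mem (x ^ n) := by
  induction n with
  | zero => rw [pow_zero]; exact S.mem_one T
  | succ n ih => rw [pow_succ]; exact mem_mul ih hx

theorem isMonHom_pow {M G : Over (Spec (CommRingCat.of k))} [GrpObj M] [GrpObj G] [IsCommMonObj G] (f : M ⟶ G)
    [IsMonHom f] (n : ℕ) : IsMonHom (f ^ n) := by
  refine ⟨?_, ?_⟩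
  · rw [MonObj.comp_pow, IsMonHom.one_hom, MonObj.one_eq_one, one_pow]
  · rw [MonObj.comp_pow, IsMonHom.mul_hom, MonObj.mul_eq_mul, MonObj.comp_mul, mul_pow, MonObj.comp_mul]
    simp [MonObj.comp_pow]

/-- The morphism of groups given by a homomorphism on points. -/
theorem exists_pw (S S' : Sub X) (n : ℕ) (h : S'.Mem (S.inc ^ n)) : ∃ q : S.G ⟶ S'.G, und q ≫ S'.inc = S.inc ^ n := by
  obtain ⟨y, hy⟩ := h
  have h1 : IsMonHom (y ≫ S'.inc) := by
    rw [hy]
    exact isMonHom_pow _ _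
  have h2 : IsMonHom y := Groth.Agent.Sga3C.SubGrp.isMonHom_of_comp_mono y S'.inc
  exact ⟨mkHomP y h2, hy⟩

/-- The inclusion. -/
theorem exists_incl (S S' : Sub X) (h : S'.Mem S.inc) : ∃ q : S.G ⟶ S'.G, Mono q ∧ und q ≫ S'.inc = S.inc := by
  obtain ⟨q, hq⟩ := exists_pw S S' 1 (by rwa [pow_one])
  rw [pow_one] at hq
  have h1 : Mono (und q) := by
    have : Mono (und q ≫ S'.inc) := by rw [hq]; infer_instance
    exact mono_of_mono (und q) S'.inc
  exact ⟨q, mono_of_und q, hq⟩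

/-- The subgroup of a subgroup. -/
def of (S : Sub X) {L : Alg k} (l : L ⟶ S.G) [Mono l] : Sub X where
  G := L
  inc := und l ≫ S.inc
  mon := inferInstance
  mono := by
    have := mono_und l
    exact mono_comp _ _
  fin := by
    rw [← ord_ne_zero_iff]
    intro h0
    apply S.o_ne_zero
    change ord S.G = 0
    rw [ord_mono l, h0, zero_mul]

omit [IsCommMonObj X] in
theorem mem_of (S : Sub X) {L : Alg k} (l : L ⟶ S.G) [Mono l] {T : Over (Spec (CommRingCat.of k))} (y : T ⟶ S.G.obj.X) :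
    (S.of l).Mem (y ≫ S.inc) ↔ ∃ z : T ⟶ L.obj.X, z ≫ und l = y := by
  constructor
  · rintro ⟨z, hz⟩
    refine ⟨z, ?_⟩
    rw [← cancel_mono S.inc, Category.assoc]
    exact hz
  · rintro ⟨z, rfl⟩
    exact ⟨z, (Category.assoc _ _ _).symm⟩

omit [IsCommMonObj X] in
theorem mem_of' (S : Sub X) {L : Alg k} (l : L ⟶ S.G) [Mono l] {T : Over (Spec (CommRingCat.of k))} {x : T ⟶ X}
    (h : (S.of l).Mem x) : S.Mem x := by
  obtain ⟨z, rfl⟩ := h
  exact ⟨z ≫ und l, Category.assoc _ _ _⟩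

theorem ord_epi {G H L : Alg k} (l : L ⟶ G) [Mono l] (q : G ⟶ H) [Epi q] (hlq : l ≫ q = 0)
    (hk : ∀ {T : Over (Spec (CommRingCat.of k))} (x : T ⟶ G.obj.X), x ≫ und q = 1 → ∃ t : T ⟶ L.obj.X, t ≫ und l = x) :
    ord G = ord L * ord H :=
  ord_mul_of_W l q hlq (W_of_epi q) hk

theorem epi_of_coker {G H : Alg k} (i : G ⟶ H) (h : ord (cokernel i) = 1) : Epi i := by
  have h3 := isZero_of_ord _ h
  rw [Preadditive.epi_iff_cancel_zero]
  intro P g hg
  have : g = cokernel.π i ≫ cokernel.desc i g hg := (cokernel.π_desc _ _ _).symm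
  rw [this, h3.eq_zero_of_tgt (cokernel.π i), zero_comp]

theorem epi_of_ord_mono {G H : Alg k} (i : G ⟶ H) [Mono i] (hH : ord H ≠ 0) (hle : ord H ≤ ord G) : Epi i := by
  have h1 := ord_mono i
  have hG : ord G ≠ 0 := fun h0 => hH (by rw [h1, h0, zero_mul])
  have h2 : ord (cokernel i) ≠ 0 := fun h0 => hH (by rw [h1, h0, mul_zero])
  apply epi_of_coker
  have : ord (cokernel i) ≤ 1 := by
    by_contra hlt
    push Not at hlt
    have : ord G * 1 < ord G * ord (cokernel i) := Nat.mul_lt_mul_of_pos_left hlt (Nat.pos_of_ne_zero hG)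
    omega
  omega

/-- A morphism whose kernel is as small as possible is an epimorphism. -/
theorem epi_of_ord {G H L : Alg k} (l : L ⟶ G) [Mono l] (f : G ⟶ H) (hlf : l ≫ f = 0)
    (hk : ∀ {T : Over (Spec (CommRingCat.of k))} (x : T ⟶ G.obj.X), x ≫ und f = 1 → ∃ t : T ⟶ L.obj.X, t ≫ und l = x)
    (hG : ord G ≠ 0) (hH : ord H ≠ 0) (hle : ord L * ord H ≤ ord G) : Epi f := by
  obtain ⟨I, q, i, hq, hi, -, hqi⟩ := exists_fac f
  have hqe := epi_of_W q hq
  have hmu := mono_und i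
  have h1 : ord G = ord L * ord I := by
    refine ord_epi l q ?_ ?_
    · rw [← cancel_mono i, Category.assoc, hqi, hlf, zero_comp]
    · intro T x hx
      apply hk
      rw [← hqi, und_comp, ← Category.assoc, hx, MonObj.one_comp]
  have hL : 0 < ord L := Nat.pos_of_ne_zero fun h0 => hG (by rw [h1, h0, zero_mul])
  have h2 : ord H ≤ ord I := by
    rw [h1] at hle
    exact Nat.le_of_mul_le_mul_left hle hL
  have h3 := epi_of_ord_mono i hH h2
  rw [← hqi]
  infer_instance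

omit [IsCommMonObj X] in
theorem le_of_epi_incl {S S' : Sub X} {q : S.G ⟶ S'.G} [Mono q] [Epi q] (hq : und q ≫ S'.inc = S.inc)
    {T : Over (Spec (CommRingCat.of k))} {x : T ⟶ X} (h : S'.Mem x) : S.Mem x := by
  have hiso : IsIso q := isIso_of_mono_of_epi q
  obtain ⟨y, rfl⟩ := h
  refine ⟨y ≫ und (inv q), ?_⟩
  have e : und (inv q) ≫ und q = 𝟙 _ := by rw [← und_comp, IsIso.inv_hom_id]; rfl
  rw [← hq, Category.assoc, ← Category.assoc (und (inv q)), e, Category.id_comp]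

/-- A subgroup of the same order is everything. -/
theorem le_of_ord {S S' : Sub X} (h : S'.Mem S.inc) (ho : S'.o ≤ S.o) {T : Over (Spec (CommRingCat.of k))} {x : T ⟶ X}
    (hx : S'.Mem x) : S.Mem x := by
  obtain ⟨q, hq, hq'⟩ := exists_incl S S' h
  have := epi_of_ord_mono q S'.o_ne_zero ho
  exact le_of_epi_incl hq' hx

omit [IsCommMonObj X] in
/-- Subgroups with the same points have the same order. -/
theorem o_le [IsCommMonObj X] {S S' : Sub X} (h : S'.Mem S.inc) : S.o ≤ S'.o := by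
  obtain ⟨q, hq, hq'⟩ := exists_incl S S' h
  have h1 : ord S'.G = ord S.G * ord (cokernel q) := ord_mono q
  have h2 : ord (cokernel q) ≠ 0 := fun h0 => S'.o_ne_zero (by change ord S'.G = 0; rw [h1, h0, mul_zero])
  change ord S.G ≤ ord S'.G
  rw [h1]
  exact Nat.le_mul_of_pos_right _ (Nat.pos_of_ne_zero h2)

theorem o_eq {S S' : Sub X} (h : S'.Mem S.inc) (h' : S.Mem S'.inc) : S.o = S'.o := le_antisymm (o_le h) (o_le h')

omit [IsCommMonObj X] in
theorem mem_self (S : Sub X) : S.Mem S.inc := ⟨𝟙 _, Category.id_comp _⟩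

section Preim

variable (S S' R : Sub X) (n : ℕ) (h : S'.Mem (S.inc ^ n)) (hR : S'.Mem R.inc)

include h hR in
/-- Preimages of subgroups under power maps. -/
theorem exists_preim : ∃ Q : Sub X, ∀ {T : Over (Spec (CommRingCat.of k))} (x : T ⟶ X), Q.Mem x ↔ S.Mem x ∧ R.Mem (x ^ n) := by
  obtain ⟨q, hq⟩ := exists_pw S S' n h
  obtain ⟨r, hr, hr'⟩ := exists_incl R S' hR
  obtain ⟨K, i, hi, -, hi0, hl⟩ := exists_ker (q ≫ cokernel.π r)
  have hmi : Mono i := mono_of_und i
  refine ⟨S.of i, fun {T} x => ⟨fun hx => ⟨mem_of' S i hx, ?_⟩, ?_⟩⟩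
  · obtain ⟨y, rfl⟩ := mem_of' S i hx
    rw [mem_of] at hx
    obtain ⟨z, rfl⟩ := hx
    have h1 : (z ≫ und i ≫ und q) ≫ und (cokernel.π r) = 1 := by
      rw [Category.assoc, Category.assoc, ← und_comp, ← und_comp, hi0, und_zero, MonObj.comp_one]
    obtain ⟨t, ht⟩ := kernel_of_mono r _ h1
    refine ⟨t, ?_⟩
    rw [← hr', ← Category.assoc, ht, Category.assoc, Category.assoc, hq, ← MonObj.comp_pow, Category.assoc]
  · rintro ⟨⟨y, rfl⟩, ⟨t, ht⟩⟩
    rw [mem_of]
    apply hl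
    rw [und_comp, ← Category.assoc]
    have h1 : y ≫ und q = t ≫ und r := by
      rw [← cancel_mono S'.inc, Category.assoc, hq, Category.assoc, hr', ht, MonObj.comp_pow]
    rw [h1, Category.assoc, ← und_comp, cokernel.condition, und_zero, MonObj.comp_one]

/-- The order of a preimage under a surjective power map. -/
theorem preim_ord {q : S.G ⟶ S'.G} [Epi q] (hq : und q ≫ S'.inc = S.inc ^ n) (hR : S'.Mem R.inc) (Q : Sub X)
    (hQ : ∀ {T : Over (Spec (CommRingCat.of k))} (x : T ⟶ X), Q.Mem x ↔ S.Mem x ∧ R.Mem (x ^ n)) :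
    S.o * R.o = S'.o * Q.o := by
  obtain ⟨r, hr, hr'⟩ := exists_incl R S' hR
  have hQS := (hQ Q.inc).1 Q.mem_self
  obtain ⟨i, hi, hi'⟩ := exists_incl Q S hQS.1
  have h1 : ord S'.G = ord R.G * ord (cokernel r) := ord_mono r
  have h2 : ord S.G = ord Q.G * ord (cokernel r) := by
    refine ord_epi i (q ≫ cokernel.π r) ?_ ?_
    · obtain ⟨t, ht⟩ := hQS.2
      apply und_inj
      have h3 : und i ≫ und q = t ≫ und r := by
        rw [← cancel_mono S'.inc, Category.assoc, hq, Category.assoc, hr', ht, MonObj.comp_pow, hi']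
      rw [und_comp, und_comp, ← Category.assoc, h3, Category.assoc, ← und_comp, cokernel.condition, und_zero,
        MonObj.comp_one, und_zero]
    · intro T x hx
      have h4 : Q.Mem (x ≫ S.inc) := by
        rw [hQ]
        refine ⟨⟨x, rfl⟩, ?_⟩
        rw [und_comp, ← Category.assoc] at hx
        obtain ⟨t, ht⟩ := kernel_of_mono r _ hx
        refine ⟨t, ?_⟩
        rw [← hr', ← Category.assoc, ht, Category.assoc, hq, MonObj.comp_pow]
      obtain ⟨t, ht⟩ := h4
      refine ⟨t, ?_⟩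
      rw [← cancel_mono S.inc, Category.assoc, hi', ht]
  change ord S.G * ord R.G = ord S'.G * ord Q.G
  rw [h1, h2]
  ring

/-- A power map with small kernel is surjective. -/
theorem exists_epi (h : S'.Mem (S.inc ^ n)) (K : Sub X)
    (hK : ∀ {T : Over (Spec (CommRingCat.of k))} (x : T ⟶ X), K.Mem x ↔ S.Mem x ∧ x ^ n = 1)
    (ho : K.o * S'.o ≤ S.o) : ∃ q : S.G ⟶ S'.G, Epi q ∧ und q ≫ S'.inc = S.inc ^ n := by
  obtain ⟨q, hq⟩ := exists_pw S S' n h
  obtain ⟨h1, h2⟩ := (hK K.inc).1 K.mem_self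
  obtain ⟨i, hi, hi'⟩ := exists_incl K S h1
  refine ⟨q, ?_, hq⟩
  refine epi_of_ord i q ?_ ?_ S.o_ne_zero S'.o_ne_zero ho
  · apply und_inj
    rw [und_comp, und_zero, ← cancel_mono S'.inc, Category.assoc, hq, MonObj.comp_pow, hi', h2, MonObj.one_comp]
  · intro T x hx
    have h4 : K.Mem (x ≫ S.inc) := by
      rw [hK]
      refine ⟨⟨x, rfl⟩, ?_⟩
      rw [← MonObj.comp_pow, ← hq, ← Category.assoc, hx, MonObj.one_comp]
    obtain ⟨t, ht⟩ := h4
    refine ⟨t, ?_⟩
    rw [← cancel_mono S.inc, Category.assoc, hi', ht]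

end Preim

/-- Sums of subgroups. -/
theorem exists_sum (S S' R K : Sub X) (hS : S'.Mem S.inc) (hR : S'.Mem R.inc)
    (hK : ∀ {T : Over (Spec (CommRingCat.of k))} (x : T ⟶ X), K.Mem x ↔ S.Mem x ∧ R.Mem x)
    (ho : S'.o * K.o ≤ S.o * R.o) {T : Over (Spec (CommRingCat.of k))} {x : T ⟶ X} (hx : S'.Mem x) :
    ∃ (T' : Over (Spec (CommRingCat.of k))) (g : T' ⟶ T) (y : T' ⟶ X), Flat g.left ∧ Surjective g.left ∧
      QuasiCompact g.left ∧ S.Mem y ∧ R.Mem ((g ≫ x) * y⁻¹) := by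
  obtain ⟨s, hs, hs'⟩ := exists_incl S S' hS
  obtain ⟨r, hr, hr'⟩ := exists_incl R S' hR
  obtain ⟨h1, h2⟩ := (hK K.inc).1 K.mem_self
  obtain ⟨i, hi, hi'⟩ := exists_incl K S h1
  have h3 : ord S'.G = ord R.G * ord (cokernel r) := ord_mono r
  have hc0 : ord (cokernel r) ≠ 0 := fun h0 => S'.o_ne_zero (by change ord S'.G = 0; rw [h3, h0, mul_zero])
  have hR0 := R.o_ne_zero
  have hepi : Epi (s ≫ cokernel.π r) := by
    refine epi_of_ord i (s ≫ cokernel.π r) ?_ ?_ S.o_ne_zero hc0 ?_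
    · obtain ⟨t, ht⟩ := h2
      apply und_inj
      have h4 : und i ≫ und s = t ≫ und r := by
        rw [← cancel_mono S'.inc, Category.assoc, hs', hi', Category.assoc, hr', ht]
      rw [und_comp, und_comp, ← Category.assoc, h4, Category.assoc, ← und_comp, cokernel.condition, und_zero,
        MonObj.comp_one, und_zero]
    · intro T x hx
      have h4 : K.Mem (x ≫ S.inc) := by
        rw [hK]
        refine ⟨⟨x, rfl⟩, ?_⟩
        rw [und_comp, ← Category.assoc] at hx
        obtain ⟨t, ht⟩ := kernel_of_mono r _ hx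
        exact ⟨t, by rw [← hr', ← Category.assoc, ht, Category.assoc, hs']⟩
      obtain ⟨t, ht⟩ := h4
      exact ⟨t, by rw [← cancel_mono S.inc, Category.assoc, hi', ht]⟩
    · change ord S'.G * ord K.G ≤ ord S.G * ord R.G at ho
      rw [h3] at ho
      have h5 : ord R.G * (ord K.G * ord (cokernel r)) ≤ ord R.G * ord S.G := by
        calc _ = ord R.G * ord (cokernel r) * ord K.G := by ring
          _ ≤ _ := ho
          _ = _ := by ring
      exact Nat.le_of_mul_le_mul_left h5 (Nat.pos_of_ne_zero hR0)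
  obtain ⟨q1, q2, q3⟩ := W_of_epi (s ≫ cokernel.π r)
  obtain ⟨x', rfl⟩ := hx
  obtain ⟨T', g, y, a1, a2, -, a4, a5⟩ := exists_lift_cover (und (s ≫ cokernel.π r)) (x' ≫ und (cokernel.π r))
  have hqc : QuasiCompact (und (s ≫ cokernel.π r)).left := by
    have hf : IsFinite ((und (s ≫ cokernel.π r)).left ≫ (cokernel r).obj.X.hom) := by rw [Over.w]; exact S.fin
    have hf2 : IsFinite (cokernel r).obj.X.hom := (ord_ne_zero_iff _).1 hc0
    have hf3 : IsFinite (und (s ≫ cokernel.π r)).left := IsFinite.of_comp _ (cokernel r).obj.X.hom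
    infer_instance
  refine ⟨T', g, y ≫ S.inc, a1, a2, a4 hqc, ⟨y, rfl⟩, ?_⟩
  have h6 : ((g ≫ x') * (y ≫ und s)⁻¹) ≫ und (cokernel.π r) = 1 := by
    rw [MonObj.mul_comp, GrpObj.inv_comp, Category.assoc, a5, und_comp, Category.assoc, _root_.mul_inv_cancel]
  obtain ⟨t, ht⟩ := kernel_of_mono r _ h6
  refine ⟨t, ?_⟩
  rw [← hr', ← Category.assoc, ht, MonObj.mul_comp, GrpObj.inv_comp, Category.assoc, Category.assoc, hs']

end Sub

end K106.FSub
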