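import Mathlib.LinearAlgebra.Dual.Lemmas
import Mathlib.RingTheory.TensorProduct.Free
import Mathlib.RingTheory.TensorProduct.Finite

/-!
# The contraction maps of a tensor

* `th t : Dual B → A` for `t : A ⊗ B`; `finrank_range_th`: the ranks of the two contraction maps agree.
* `th_mul`: multiplicativity with respect to a convolution.
-/

set_option autoImplicit false
universe u v w

open TensorProduct

noncomputable section

namespace K106.TensRank

variable {k : Type u} [Field k] {A : Type v} {B : Type w}

section Lin

variable [AddCommGroup A] [Module k A] [AddCommGroup B] [Module k B]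

/-- Contraction of a tensor with linear forms on the second factor. -/
def th (t : A ⊗[k] B) : Module.Dual k B →ₗ[k] A where
  toFun μ := TensorProduct.rid k A (LinearMap.lTensor A μ t)
  map_add' μ ν := by rw [LinearMap.lTensor_add, LinearMap.add_apply, map_add]
  map_smul' c μ := by rw [LinearMap.lTensor_smul, LinearMap.smul_apply, map_smul]; rfl

@[simp] theorem th_tmul (a : A) (b : B) (μ : Module.Dual k B) : th (a ⊗ₜ[k] b) μ = μ b • a := by
  change TensorProduct.rid k A (LinearMap.lTensor A μ (a ⊗ₜ[k] b)) = _
  rw [LinearMap.lTensor_tmul, TensorProduct.rid_tmul]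

theorem th_add (s t : A ⊗[k] B) (μ : Module.Dual k B) : th (s + t) μ = th s μ + th t μ := by
  change TensorProduct.rid k A (LinearMap.lTensor A μ (s + t)) = _
  rw [map_add, map_add]; rfl

@[simp] theorem th_zero (μ : Module.Dual k B) : th (0 : A ⊗[k] B) μ = 0 := by
  change TensorProduct.rid k A (LinearMap.lTensor A μ 0) = _
  rw [map_zero, map_zero]

theorem dualMap_th (t : A ⊗[k] B) (μ : Module.Dual k B) (ν : Module.Dual k A) :
    (th (TensorProduct.comm k A B t)).dualMap μ ν = ν (th t μ) := by
  rw [LinearMap.dualMap_apply]
  induction t using TensorProduct.induction_on with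
  | zero => simp
  | tmul a b => simp [mul_comm]
  | add s t hs ht => rw [map_add, th_add, th_add, map_add, map_add, hs, ht]

theorem finrank_range_th [Module.Finite k A] [Module.Finite k B] (t : A ⊗[k] B) :
    Module.finrank k (LinearMap.range (th t)) = Module.finrank k (LinearMap.range (th (TensorProduct.comm k A B t))) := by
  rw [← LinearMap.finrank_range_dualMap_eq_finrank_range (th (TensorProduct.comm k A B t))]
  have h : (th (TensorProduct.comm k A B t)).dualMap = (Module.evalEquiv k A).toLinearMap ∘ₗ th t := by
    ext μ ν
    rw [dualMap_th]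
    rfl
  rw [h, LinearMap.range_comp]
  exact (LinearEquiv.finrank_map_eq (Module.evalEquiv k A) _).symm

/-- Expansion in a basis. -/
theorem sum_th {J : Type*} [Fintype J] [DecidableEq J] (b : Module.Basis J k B) (t : A ⊗[k] B) :
    t = ∑ j, th t (b.coord j) ⊗ₜ[k] b j := by
  induction t using TensorProduct.induction_on with
  | zero => simp
  | tmul a c =>
    simp only [th_tmul, Module.Basis.coord_apply, TensorProduct.smul_tmul]
    rw [← TensorProduct.tmul_sum, b.sum_repr]
  | add s t hs ht =>
    conv_lhs => rw [hs, ht]
    rw [← Finset.sum_add_distrib]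
    exact Finset.sum_congr rfl fun j _ => by rw [th_add, TensorProduct.add_tmul]

end Lin

section Alg

variable [CommRing A] [Algebra k A] [CommRing B] [Algebra k B]

/-- Product of linear forms. -/
def prodForm (μ ν : Module.Dual k B) : Module.Dual k (B ⊗[k] B) := TensorProduct.dualDistrib k B B (μ ⊗ₜ ν)

@[simp] theorem prodForm_tmul (μ ν : Module.Dual k B) (b c : B) : prodForm μ ν (b ⊗ₜ c) = μ b * ν c := by
  rw [prodForm, TensorProduct.dualDistrib_apply]

/-- The first inclusion. -/
abbrev i12 : A ⊗[k] B →ₐ[k] A ⊗[k] (B ⊗[k] B) :=
  Algebra.TensorProduct.map (AlgHom.id k A) Algebra.TensorProduct.includeLeft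

/-- The second inclusion. -/
abbrev i13 : A ⊗[k] B →ₐ[k] A ⊗[k] (B ⊗[k] B) :=
  Algebra.TensorProduct.map (AlgHom.id k A) Algebra.TensorProduct.includeRight

theorem th_i12_mul_i13 (s t : A ⊗[k] B) (μ ν : Module.Dual k B) :
    th (i12 s * i13 t) (prodForm μ ν) = th s μ * th t ν := by
  induction s using TensorProduct.induction_on with
  | zero => simp
  | tmul a b =>
    induction t using TensorProduct.induction_on with
    | zero => simp
    | tmul c d =>
      simp only [i12, i13, Algebra.TensorProduct.map_tmul, AlgHom.coe_id, id_eq, Algebra.TensorProduct.includeLeft_apply,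
        Algebra.TensorProduct.includeRight_apply, Algebra.TensorProduct.tmul_mul_tmul, one_mul, mul_one, th_tmul,
        prodForm_tmul, smul_mul_smul_comm]
    | add x y hx hy => rw [map_add, mul_add, th_add, th_add, hx, hy, mul_add]
  | add x y hx hy => rw [map_add, add_mul, th_add, th_add, hx, hy, add_mul]

theorem th_map {C : Type*} [AddCommGroup C] [Module k C] (f : B →ₗ[k] C) (t : A ⊗[k] B) (μ : Module.Dual k C) :
    th (LinearMap.lTensor A f t) μ = th t (μ ∘ₗ f) := by
  induction t using TensorProduct.induction_on with
  | zero => simp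
  | tmul a b => simp
  | add s t hs ht => rw [map_add, th_add, th_add, hs, ht]

end Alg

end K106.TensRank
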